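import Mathlib
import Cfsg.Agent.Lib.Helper5.QuadSign.Cons
import Cfsg.Agent.Lib.Helper5.SemiCount.FpfCount

set_option autoImplicit false

/-!
# Polynomial facts for isometries of odd prime order: orthogonality of kernels and the sign of a
space with a fixed-point-free isometry
-/

namespace Cfsg.Agent.Lib.Helper5.OElus

open QuadraticMap Module Polynomial Cfsg
open Cfsg.Agent.Lib.Helper5.QuadTwo Cfsg.Agent.Lib.Helper5.QuadSign
open Cfsg.Agent.Lib.Helper5.SemiCount
open Cfsg.Agent.Lib.Helper4.PrimeOrd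

universe u v

section poly
variable {F : Type u} [Field F] [Fintype F] {r i t : ℕ} {f : Fin t → F[X]}

/-- the full factorisation of `X ^ r - 1` -/
theorem prod_fam_eq (H : FamHyp r i t f) (ht : t * i = r - 1) :
    (X ^ r - 1 : F[X]) = (X - C 1) * ∏ j, f j := by
  have hr := H.rpos
  have hcop : IsCoprime (X - C 1 : F[X]) (∏ j, f j) := by
    apply IsCoprime.prod_right
    intro j _
    rw [(irreducible_X_sub_C (1 : F)).coprime_iff_not_dvd]
    intro hd
    exact H.ne1 j (eq_of_monic_of_associated (H.monic j) (monic_X_sub_C 1)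
      ((irreducible_X_sub_C (1 : F)).associated_of_dvd (H.irr j) hd).symm)
  have hdvd2 : ∏ j, f j ∣ X ^ r - 1 :=
    Fintype.prod_dvd_of_coprime (fun j k hjk => fam_isCoprime H hjk) (fun j => H.dvd j)
  have hdvd : (X - C 1) * ∏ j, f j ∣ X ^ r - 1 := hcop.mul_dvd (X_sub_one_dvd r) hdvd2
  have hmon2 : (∏ j, f j).Monic := monic_prod_of_monic _ _ (fun j _ => H.monic j)
  have hmon : ((X - C 1) * ∏ j, f j).Monic := (monic_X_sub_C 1).mul hmon2
  have hdeg : ((X - C 1) * ∏ j, f j).natDegree = r := by
    rw [Monic.natDegree_mul (monic_X_sub_C 1) hmon2, natDegree_X_sub_C,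
      natDegree_prod_of_monic _ _ (fun j _ => H.monic j)]
    simp only [H.deg, Finset.sum_const, Finset.card_univ, Fintype.card_fin, smul_eq_mul]
    omega
  have hmon' : (X ^ r - 1 : F[X]).Monic := by
    have := monic_X_pow_sub_C (1 : F) (ne_of_gt hr)
    rwa [C_1] at this
  have hdeg' : (X ^ r - 1 : F[X]).natDegree = r := by
    have := natDegree_X_pow_sub_C (n := r) (r := (1 : F))
    rwa [C_1] at this
  exact eq_of_monic_of_dvd_of_natDegree_le hmon hmon' hdvd (by rw [hdeg, hdeg'])

end poly

section orth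
variable {F : Type u} [Field F] {V : Type v} [AddCommGroup V] [Module F V]
  (Q : QuadraticForm F V) (g : V →ₗ[F] V) (hiso : ∀ x, Q (g x) = Q x)

include hiso

/-- the kernels of `a(g)` and `b(g)` are orthogonal when the reverse of `a` is coprime to `b` -/
theorem polar_ker_orth (a b : F[X]) (hab : IsCoprime a.reverse b) (x y : V)
    (hx : aeval g a x = 0) (hy : aeval g b y = 0) : polar Q x y = 0 := by
  obtain ⟨s, t, hst⟩ := hab
  have h1 : aeval g (s * a.reverse + t * b) y = y := by
    rw [hst, map_one, Module.End.one_apply]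
  have h2 : y = aeval g a.reverse (aeval g s y) := by
    rw [map_add, LinearMap.add_apply, map_mul, Module.End.mul_apply, map_mul,
      Module.End.mul_apply, hy, map_zero, add_zero] at h1
    rw [← Module.End.mul_apply, ← map_mul, mul_comm, map_mul, Module.End.mul_apply]
    exact h1.symm
  have h3 := polar_aeval_pow Q g hiso a a.natDegree le_rfl x (aeval g s y)
  rw [hx, polar_zero_left] at h3
  rw [h2]
  exact h3.symm

end orth

section sign
variable {F : Type u} [Field F] [Fintype F] {V : Type v} [AddCommGroup V] [Module F V]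
  [FiniteDimensional F V] {r i t : ℕ} {f : Fin t → F[X]}

omit [FiniteDimensional F V] in
/-- the product of the whole family annihilates a space without fixed vectors -/
theorem aeval_prod_fam_eq_zero (H : FamHyp r i t f) (ht : t * i = r - 1) (g : V →ₗ[F] V)
    (hgr : g ^ r = 1) (hfix : ∀ v, g v = v → v = 0) : aeval g (∏ j, f j) = 0 := by
  apply LinearMap.ext
  intro v
  rw [LinearMap.zero_apply]
  apply hfix
  have h1 : aeval g ((X - C 1) * ∏ j, f j) v = 0 := by
    rw [← prod_fam_eq H ht, map_sub, map_pow, aeval_X, map_one, hgr, sub_self,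
      LinearMap.zero_apply]
  rw [map_mul, Module.End.mul_apply, map_sub, aeval_X, aeval_C, LinearMap.sub_apply] at h1
  rw [← sub_eq_zero]
  simpa using h1

/-- **a space with a fixed-point-free isometry of odd prime order `r`, with `q` of odd order
modulo `r`, has sign `+`** -/
theorem hasSign_fpf_odd (Q : QuadraticForm F V) (g : V →ₗ[F] V) (hiso : ∀ x, Q (g x) = Q x)
    (gi : V →ₗ[F] V) (gi_g : ∀ x, gi (g x) = x) (g_gi : ∀ x, g (gi x) = x)
    (hfix : ∀ v, g v = v → v = 0) (hQ : Nd Q) (k : ℕ) (hk : finrank F V = 2 * k)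
    (H : FamHyp r i t f) (ht : t * i = r - 1) (hgr : g ^ r = 1)
    (π : Fin t → Fin t) (hπi : Function.Involutive π)
    (hπ : ∀ j, star (RingHom.id F) (f j) = f (π j)) (hfp : ∀ j, π j ≠ j) : HasSign Q k 1 := by
  classical
  obtain ⟨A, hA⟩ : ∃ A : F[X], A = ∏ a : {j : Fin t // j < π j}, f a.1 := ⟨_, rfl⟩
  obtain ⟨B, hB⟩ : ∃ B : F[X], B = ∏ b : {j : Fin t // ¬ j < π j}, f b.1 := ⟨_, rfl⟩
  have hAB : A * B = ∏ j, f j := by
    rw [hA, hB]
    exact Fintype.prod_subtype_mul_prod_subtype (fun j => j < π j) (fun j => f j)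
  have hsA : star (RingHom.id F) A = B := by
    rw [hA, hB, Cfsg.Agent.Lib.Helper5.SemiCount.star_prod,
      ← Equiv.prod_comp (complEquiv π hπi hfp) (fun b : {j : Fin t // ¬ j < π j} => f b.1)]
    apply Finset.prod_congr rfl
    intro a _
    rw [hπ]
    rfl
  have hsB : star (RingHom.id F) B = A := by
    rw [hA, hB, Cfsg.Agent.Lib.Helper5.SemiCount.star_prod,
      ← Equiv.prod_comp (complEquiv π hπi hfp).symm
        (fun a : {j : Fin t // j < π j} => f a.1)]
    apply Finset.prod_congr rfl
    intro b _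
    rw [hπ]
    rfl
  have hrev : ∀ P P' : F[X], P.coeff 0 ≠ 0 → star (RingHom.id F) P = P' →
      P.reverse = C (P.coeff 0) * P' := by
    intro P P' h0 hs
    rw [← hs]
    unfold Cfsg.Agent.Lib.Helper5.SemiCount.star
    rw [Polynomial.map_id, RingHom.id_apply, ← mul_assoc, ← C_mul, mul_inv_cancel₀ h0, C_1,
      one_mul]
  have hAB0 : (A * B).coeff 0 ≠ 0 := by
    rw [hAB, coeff_zero_eq_eval_zero, eval_prod]
    apply Finset.prod_ne_zero_iff.mpr
    intro j _
    rw [← coeff_zero_eq_eval_zero]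
    exact fam_coeff_zero_ne H j
  rw [mul_coeff_zero] at hAB0
  have hA0 : A.coeff 0 ≠ 0 := left_ne_zero_of_mul hAB0
  have hB0 : B.coeff 0 ≠ 0 := right_ne_zero_of_mul hAB0
  have hcop : IsCoprime A B := by
    rw [hA, hB]
    apply IsCoprime.prod_left
    intro a _
    apply IsCoprime.prod_right
    intro b _
    apply fam_isCoprime H
    intro hab
    exact b.2 (hab ▸ a.2)
  have h0 : aeval g (A * B) = 0 := by
    rw [hAB]
    exact aeval_prod_fam_eq_zero H ht g hgr hfix
  exact hasSign_of_dual_split Q g hiso gi gi_g g_gi hfix hQ k hk A B hcop h0 _ _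
    (hrev A B hA0 hsA) (hrev B A hB0 hsB)

end sign

end Cfsg.Agent.Lib.Helper5.OElus
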