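import Mathlib
import Cfsg.Agent.Lib.Helper5.OElus.Poly
import Cfsg.Agent.Lib.Helper5.OUnip.Basic
import Cfsg.Agent.Lib.Helper5.QuadSign.Main
import Cfsg.Agent.Lib.Helper5.QuadSign.GeoInst
import Cfsg.Agent.Lib.Helper5.NsPt.Semi
import Cfsg.Agent.Lib.Helper2.ElusE

set_option autoImplicit false

/-!
# Invariant nondegenerate subspaces of an isometry of odd prime order: the dimension of the
moving part and the sign of a subspace without fixed vectors
-/

namespace Cfsg.Agent.Lib.Helper5.OElus

open QuadraticMap Module Polynomial Cfsg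
open Cfsg.Agent.Lib.Helper5.QuadTwo Cfsg.Agent.Lib.Helper5.QuadSign
open Cfsg.Agent.Lib.Helper5.SemiCount Cfsg.Agent.Lib.Helper5.OrthPrime
open Cfsg.Agent.Lib.Helper4.PrimeOrd

universe u v

section basic
variable {F : Type u} [Field F] {V : Type v} [AddCommGroup V] [Module F V]

/-- nondegeneracy of the polar form on a subspace -/
def NdOn (Q : QuadraticForm F V) (W : Submodule F V) : Prop :=
  ∀ v ∈ W, (∀ w ∈ W, polar Q w v = 0) → v = 0

theorem nd_res_iff (Q : QuadraticForm F V) (W : Submodule F V) : Nd (res Q W) ↔ NdOn Q W := by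
  constructor
  · intro h v hv hvw
    have := h ⟨v, hv⟩ (fun w => by rw [polar_res]; exact hvw w.1 w.2)
    exact congrArg Subtype.val this
  · intro h v hv
    apply Subtype.ext
    apply h v.1 v.2
    intro w hw
    have := hv ⟨w, hw⟩
    rwa [polar_res] at this

/-- an element of odd order fixes the vectors fixed by its square -/
theorem fix_of_sq_fix (g : Module.End F V) (r : ℕ) (rodd : Odd r) (hr : g ^ r = 1) (v : V)
    (h : g (g v) = v) : g v = v := by
  obtain ⟨k, hk⟩ := rodd
  have h1 : ∀ n : ℕ, (g ^ (2 * n)) v = v := by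
    intro n
    induction n with
    | zero => simp
    | succ n ih =>
      rw [show 2 * (n + 1) = 2 * n + 2 by ring, pow_add, Module.End.mul_apply, pow_two,
        Module.End.mul_apply, h, ih]
  have h2 : (g ^ r) v = g v := by
    rw [hk, pow_succ, Module.End.mul_apply]
    have h3 : (g ^ (2 * k)) (g v) = g ((g ^ (2 * k)) v) := by
      rw [← Module.End.mul_apply, ← Module.End.mul_apply, ← pow_succ, ← pow_succ']
    rw [h3, h1]
  rw [hr, Module.End.one_apply] at h2
  exact h2.symm

end basic

section mod
variable {F : Type u} [Field F] [Fintype F] {V : Type v} [AddCommGroup V] [Module F V]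
  [FiniteDimensional F V]

omit [Fintype F] in
/-- the moving part of an invariant nondegenerate subspace has even dimension -/
theorem even_finrank_sub_fix (B : LinearMap.BilinForm F V) (hs : ∀ x y, B x y = B y x)
    (g gi : V →ₗ[F] V) (hiso : ∀ x y, B (g x) (g y) = B x y)
    (g_gi : ∀ x, g (gi x) = x) (r : ℕ) (rodd : Odd r) (hgr : g ^ r = 1) (W : Submodule F V)
    (hW : ∀ x ∈ W, g x ∈ W) (hWi : ∀ x ∈ W, gi x ∈ W)
    (hnd : ∀ w ∈ W, (∀ u ∈ W, B w u = 0) → w = 0) :
    Even (finrank F W - finrank F (W ⊓ LinearMap.ker (g - 1) : Submodule F V)) := by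
  have hT : ∀ x ∈ W, (g - gi) x ∈ W := fun x hx => by
    rw [LinearMap.sub_apply]
    exact W.sub_mem (hW x hx) (hWi x hx)
  obtain ⟨T, hTdef⟩ : ∃ T : Module.End F W, T = (g - gi).restrict hT := ⟨_, rfl⟩
  have hTapp : ∀ x : W, ((T x : W) : V) = g x - gi x := by
    intro x
    rw [hTdef]
    rfl
  have h1 := Cfsg.Agent.Lib.Helper5.OUnip.even_rank_of_alt (B := resForm B W)
    (fun x y => by rw [resForm_apply, resForm_apply, hs])
    (fun x hx => by
      apply Subtype.ext
      apply hnd x.1 x.2
      intro u hu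
      have := hx ⟨u, hu⟩
      rwa [resForm_apply] at this) T
    (fun u => by
      rw [resForm_apply, hTapp, map_sub]
      have h2 : B (u : V) (gi u) = B (g u) (u : V) := by
        rw [← hiso (u : V) (gi u), g_gi]
      rw [h2, hs (g u) u, sub_self])
  have h2 := LinearMap.finrank_range_add_finrank_ker T
  have h3 : (LinearMap.ker T).map W.subtype = W ⊓ LinearMap.ker (g - 1) := by
    ext x
    simp only [Submodule.mem_map, LinearMap.mem_ker, Submodule.subtype_apply, Submodule.mem_inf,
      LinearMap.sub_apply, Module.End.one_apply]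
    constructor
    · rintro ⟨y, hy, rfl⟩
      refine ⟨y.2, ?_⟩
      have h4 : g (y : V) - gi (y : V) = 0 := by
        rw [← hTapp, hy]
        rfl
      have h5 : g (g (y : V)) = (y : V) := by
        rw [sub_eq_zero] at h4
        rw [h4, g_gi]
      rw [fix_of_sq_fix g r rodd hgr _ h5, sub_self]
    · rintro ⟨hx, hgx⟩
      rw [sub_eq_zero] at hgx
      refine ⟨⟨x, hx⟩, ?_, rfl⟩
      apply Subtype.ext
      rw [hTapp]
      show g x - gi x = 0
      have : gi x = x := by
        conv_lhs => rw [← hgx]
        have h6 : gi (g x) = x := by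
          have h7 : g (gi (g x)) = g x := g_gi (g x)
          rw [hgx] at h7
          have h8 : g (gi x) = x := g_gi x
          rw [hgx]
          -- `gi x = x` from injectivity of `g`
          have hinj : Function.Injective g := by
            intro a b hab
            have h9 : (g ^ r) a = (g ^ r) b := by
              obtain ⟨k, hk⟩ : ∃ k, r = k + 1 := ⟨r - 1, by
                have := rodd.pos
                omega⟩
              rw [hk, pow_succ, Module.End.mul_apply, Module.End.mul_apply, hab]
            rwa [hgr] at h9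
          apply hinj
          rw [h8, hgx]
        exact h6
      rw [hgx, this, sub_self]
  have h4 : finrank F (LinearMap.ker T) =
      finrank F (W ⊓ LinearMap.ker (g - 1) : Submodule F V) := by
    rw [← h3]
    exact (Submodule.equivSubtypeMap W (LinearMap.ker T)).finrank_eq
  rw [← h4, ← h2, Nat.add_sub_cancel]
  exact h1

/-- **the dimension of the moving part of an invariant nondegenerate subspace is a multiple of
`c`** -/
theorem dvd_finrank_sub_fix (B : LinearMap.BilinForm F V) (hs : ∀ x y, B x y = B y x)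
    (g gi : V →ₗ[F] V) (hiso : ∀ x y, B (g x) (g y) = B x y)
    (g_gi : ∀ x, g (gi x) = x) (r : ℕ) [hr : Fact r.Prime] (hr2 : r ≠ 2)
    (hrq : ¬ r ∣ Fintype.card F) (hgr : g ^ r = 1) (i c : ℕ)
    (hi : i = orderOf ((Fintype.card F : ℕ) : ZMod r)) (hc : c = if Even i then i else 2 * i)
    (W : Submodule F V) (hW : ∀ x ∈ W, g x ∈ W) (hWi : ∀ x ∈ W, gi x ∈ W)
    (hnd : ∀ w ∈ W, (∀ u ∈ W, B w u = 0) → w = 0) :
    c ∣ finrank F W - finrank F (W ⊓ LinearMap.ker (g - 1) : Submodule F V) := by
  have h1 := Cfsg.Agent.Lib.Helper2.Elus.mod_inf_of_inv g r hgr hrq W hW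
  rw [← hi] at h1
  have h2 := even_finrank_sub_fix B hs g gi hiso g_gi r (hr.out.odd_of_ne_two hr2) hgr W hW hWi
    hnd
  by_cases hev : Even i
  · rw [hc, if_pos hev]
    exact h1
  · rw [hc, if_neg hev]
    have hodd : Odd i := Nat.not_even_iff_odd.mp hev
    exact Nat.Coprime.mul_dvd_of_dvd_of_dvd (Nat.coprime_two_left.mpr hodd)
      (even_iff_two_dvd.mp h2) h1

end mod

end Cfsg.Agent.Lib.Helper5.OElus
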