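import Mathlib
import Cfsg.Agent.Lib.Helper5.OElus.Mod

set_option autoImplicit false

/-!
# The sign of an invariant nondegenerate subspace without fixed vectors
-/

namespace Cfsg.Agent.Lib.Helper5.OElus

open QuadraticMap Module Polynomial Cfsg
open Cfsg.Agent.Lib.Helper5.QuadTwo Cfsg.Agent.Lib.Helper5.QuadSign
open Cfsg.Agent.Lib.Helper5.SemiCount Cfsg.Agent.Lib.Helper5.OrthPrime
open Cfsg.Agent.Lib.Helper4.PrimeOrd Cfsg.Agent.Lib.Helper5.NsPt

universe u v

section sign
variable {F : Type u} [Field F] [Fintype F] {V : Type v} [AddCommGroup V] [Module F V]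
  [FiniteDimensional F V] (p : ℕ) [Fact p.Prime] [CharP F p]

include p in
/-- **the sign of an invariant nondegenerate subspace on which an isometry of odd prime order
`r ≠ p` has no fixed vectors** -/
theorem sign_sub_fpf (Q : QuadraticForm F V) (g gi : V →ₗ[F] V) (hiso : ∀ x, Q (g x) = Q x)
    (gi_g : ∀ x, gi (g x) = x) (g_gi : ∀ x, g (gi x) = x) (r : ℕ) [hr : Fact r.Prime]
    (hr2 : r ≠ 2) (hrp : r ≠ p) (hgr : g ^ r = 1) (i : ℕ)
    (hi : i = orderOf ((Fintype.card F : ℕ) : ZMod r))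
    (W : Submodule F V) (hW : ∀ x ∈ W, g x ∈ W) (hWi : ∀ x ∈ W, gi x ∈ W) (hnd : NdOn Q W)
    (hfix : ∀ v ∈ W, g v = v → v = 0) (k : ℕ) (hk : finrank F W = 2 * k) :
    (Even i → ∃ s, 2 * k = i * s ∧ HasSign (res Q W) k ((-1) ^ s)) ∧
      (¬ Even i → HasSign (res Q W) k 1) := by
  obtain ⟨hqr, t, ht⟩ := exists_order_setup p (rfl : Fintype.card F = Fintype.card F) r hr.out hrp
  rw [← hi] at ht
  obtain ⟨r0, hi', ht1, f, H, π, hπi, hπ, hπe, hπo⟩ :=
    family_setup p (rfl : Fintype.card F = Fintype.card F) r i t hr.out hr2 hrp hi ht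
  obtain ⟨gW, hgW⟩ : ∃ gW : Module.End F W, gW = g.restrict hW := ⟨_, rfl⟩
  obtain ⟨giW, hgiW⟩ : ∃ giW : Module.End F W, giW = gi.restrict hWi := ⟨_, rfl⟩
  have hgWapp : ∀ x : W, ((gW x : W) : V) = g x := fun x => by rw [hgW]; rfl
  have hgiWapp : ∀ x : W, ((giW x : W) : V) = gi x := fun x => by rw [hgiW]; rfl
  have hisoW : ∀ x, res Q W (gW x) = res Q W x := fun x => by
    rw [res_apply, res_apply, hgWapp, hiso]
  have hpow : gW ^ r = 1 := by
    rw [hgW, Module.End.pow_restrict r hW]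
    apply LinearMap.ext
    intro x
    apply Subtype.ext
    show (g ^ r) (x : V) = x
    rw [hgr, Module.End.one_apply]
  have hfixW : ∀ v, gW v = v → v = 0 := by
    intro v hv
    apply Subtype.ext
    apply hfix v.1 v.2
    rw [← hgWapp, hv]
  have hNd : Nd (res Q W) := (nd_res_iff Q W).2 hnd
  have hrq : ¬ r ∣ Fintype.card F := by
    intro h
    exact hqr ((ZMod.natCast_eq_zero_iff _ _).2 h)
  constructor
  · intro hev
    have h1 := Cfsg.Agent.Lib.Helper2.Elus.mod_inf_of_inv g r hgr hrq W hW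
    rw [← hi] at h1
    have h2 : (W ⊓ LinearMap.ker (g - 1) : Submodule F V) = ⊥ := by
      rw [eq_bot_iff]
      intro x hx
      rw [Submodule.mem_inf, LinearMap.mem_ker, LinearMap.sub_apply, Module.End.one_apply,
        sub_eq_zero] at hx
      rw [Submodule.mem_bot]
      exact hfix x hx.1 hx.2
    rw [h2, finrank_bot, Nat.sub_zero, hk] at h1
    obtain ⟨s, hs⟩ := h1
    refine ⟨s, hs, ?_⟩
    rcases (geo_all (F := F)).hasSign (res Q W) hNd k hk with h3 | h3
    · have := sign_of_fpf (res Q W) gW hisoW r hr2 hpow hfixW hi' hev H.ipos hs 1 (Or.inl rfl) h3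
      rwa [← this]
    · have := sign_of_fpf (res Q W) gW hisoW r hr2 hpow hfixW hi' hev H.ipos hs (-1)
        (Or.inr rfl) h3
      rwa [← this]
  · intro hev
    exact hasSign_fpf_odd (res Q W) gW hisoW giW
      (fun x => by apply Subtype.ext; rw [hgiWapp, hgWapp, gi_g])
      (fun x => by apply Subtype.ext; rw [hgWapp, hgiWapp, g_gi])
      hfixW hNd k hk H ht hpow π hπi hπ (hπo hev)

end sign

end Cfsg.Agent.Lib.Helper5.OElus
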