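import Mathlib
import Cfsg.Agent.Lib.Helper5.OElus.Sign
import Cfsg.Agent.Lib.Helper5.QuadSign.Std
import Cfsg.Agent.Lib.Helper5.QuadSign.TS
import Cfsg.Prelude.Def_GeometricClasses

set_option autoImplicit false

/-!
# Plus type and sign
-/

namespace Cfsg.Agent.Lib.Helper5.OElus

open QuadraticMap Module Cfsg
open Cfsg.Agent.Lib.Helper5.QuadTwo Cfsg.Agent.Lib.Helper5.QuadSign

universe u

section plus
variable {F : Type u} [Field F] [Fintype F] {V : Type u} [AddCommGroup V] [Module F V]
  [FiniteDimensional F V]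

/-- `W` contains a totally singular subspace of half its dimension -/
def PlusOn (Q : QuadraticForm F V) (W : Submodule F V) : Prop :=
  ∃ U : Submodule F V, U ≤ W ∧ (∀ u ∈ U, Q u = 0) ∧ 2 * finrank F U = finrank F W

theorem plusOn_iff_hasSign (Q : QuadraticForm F V) (W : Submodule F V) (k : ℕ)
    (hk : finrank F W = 2 * k) (hnd : NdOn Q W) : PlusOn Q W ↔ HasSign (res Q W) k 1 := by
  have hNd : Nd (res Q W) := (nd_res_iff Q W).2 hnd
  constructor
  · rintro ⟨U, hUW, hU, hUd⟩
    apply hasSign_of_ts k W (res Q W) hNd hk (U.comap W.subtype)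
    · intro x hx
      rw [res_apply]
      exact hU _ hx
    · rw [(Submodule.comapSubtypeEquivOfLe hUW).finrank_eq]
      omega
  · intro hs
    obtain ⟨φ, hφ⟩ := (geo_all (F := F)).iso_of_hasSign (res Q W) (qPlus (F := F) k) hNd
      (nd_qPlus k) k hk (finrank_plus k) 1 hs (hasSign_qPlus k)
    refine ⟨((plusL (F := F) k).comap (φ : W →ₗ[F] (Fin k ⊕ Fin k → F))).map W.subtype, ?_, ?_, ?_⟩
    · intro x hx
      obtain ⟨y, -, rfl⟩ := Submodule.mem_map.1 hx
      exact y.2
    · intro x hx
      obtain ⟨y, hy, rfl⟩ := Submodule.mem_map.1 hx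
      rw [Submodule.mem_comap, mem_plusL] at hy
      have h1 := hφ y
      rw [res_apply] at h1
      rw [Submodule.subtype_apply, ← h1, qPlus_apply]
      apply Finset.sum_eq_zero
      intro j _
      have := hy j
      rw [LinearEquiv.coe_coe] at this
      rw [this, mul_zero]
    · rw [(Submodule.equivSubtypeMap W _).symm.finrank_eq, hk]
      have h2 : finrank F ((plusL (F := F) k).comap (φ : W →ₗ[F] (Fin k ⊕ Fin k → F))) = k := by
        have h3 := (φ.submoduleMap
          ((plusL (F := F) k).comap (φ : W →ₗ[F] (Fin k ⊕ Fin k → F)))).finrank_eq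
        have h4 : ((plusL (F := F) k).comap (φ : W →ₗ[F] (Fin k ⊕ Fin k → F))).map
            (φ : W →ₗ[F] (Fin k ⊕ Fin k → F)) = plusL (F := F) k :=
          Submodule.map_comap_eq_of_surjective φ.surjective _
        rw [h3]
        have h5 := finrank_plusL (F := F) k
        rw [← h4] at h5
        exact h5
      rw [h2]

theorem not_plusOn_iff_hasSign (Q : QuadraticForm F V) (W : Submodule F V) (k : ℕ)
    (hk : finrank F W = 2 * k) (hnd : NdOn Q W) : ¬ PlusOn Q W ↔ HasSign (res Q W) k (-1) := by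
  have hNd : Nd (res Q W) := (nd_res_iff Q W).2 hnd
  rw [plusOn_iff_hasSign Q W k hk hnd]
  constructor
  · intro h
    rcases (geo_all (F := F)).hasSign (res Q W) hNd k hk with h1 | h1
    · exact absurd h1 h
    · exact h1
  · intro h h1
    have := h.unique h1
    omega

end plus

section fn
variable {F : Type u} [Field F] [Fintype F] {ι : Type} [Fintype ι] [DecidableEq ι]

omit [Fintype F] [Fintype ι] [DecidableEq ι] in
theorem isNondegenerateOn_iff (Q : QuadraticForm F (ι → F)) (W : Submodule F (ι → F)) :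
    Cfsg.Geo.IsNondegenerateOn (polar ⇑Q) W ↔ NdOn Q W := by
  constructor
  · intro h v hv hvw
    by_contra hv0
    obtain ⟨⟨x, hx, hx0⟩, -⟩ := h v hv hv0
    exact hx0 (hvw x hx)
  · intro h w hw hw0
    have h1 : ∃ x ∈ W, polar (⇑Q) x w ≠ 0 := by
      by_contra hcon
      push Not at hcon
      exact hw0 (h w hw hcon)
    refine ⟨h1, ?_⟩
    obtain ⟨x, hx, hx0⟩ := h1
    exact ⟨x, hx, by rwa [polar_comm]⟩

omit [Fintype F] [Fintype ι] [DecidableEq ι] in
theorem isPlusTypeOn_iff (Q : QuadraticForm F (ι → F)) (W : Submodule F (ι → F)) :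
    Cfsg.Geo.IsPlusTypeOn ⇑Q W ↔ PlusOn Q W := Iff.rfl

end fn

end Cfsg.Agent.Lib.Helper5.OElus
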