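import Mathlib
import Cfsg.Agent.Lib.Helper5.OElus.Bridge
import Cfsg.Agent.Lib.Helper5.OrthPrime.Cancel
import Cfsg.Agent.Lib.Helper5.DiscType

set_option autoImplicit false

/-!
# Subspaces with prescribed discriminant, and nondegenerate subspaces of prescribed type
-/

namespace Cfsg.Agent.Lib.Helper5.OElus

open QuadraticMap Module Cfsg
open Cfsg.Agent.Lib.Helper5.QuadTwo Cfsg.Agent.Lib.Helper5.QuadSign
open Cfsg.Agent.Lib.Helper5.OrthPrime

universe u v

section disc
variable {F : Type u} [Field F] {V : Type v} [AddCommGroup V] [Module F V]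

theorem nondeg_of_isDisc {B : V →ₗ[F] V →ₗ[F] F} {d : F} (h : IsDisc B d) (hd : d ≠ 0) :
    Nondeg B := by
  obtain ⟨n, b, rfl⟩ := h
  rw [gram_eq_toMatrix] at hd
  exact ((LinearMap.BilinForm.nondegenerate_iff_det_ne_zero b).2 hd).2

/-- the discriminant of an orthogonal direct sum of subspaces -/
theorem isDisc_sup {B : V →ₗ[F] V →ₗ[F] F} (hS : Symm B) (W₁ W₂ : Submodule F V)
    (horth : ∀ u ∈ W₁, ∀ w ∈ W₂, B u w = 0) (hdisj : Disjoint W₁ W₂) {d₁ d₂ : F}
    (h₁ : IsDisc (resForm B W₁) d₁) (h₂ : IsDisc (resForm B W₂) d₂) :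
    IsDisc (resForm B (W₁ ⊔ W₂)) (d₁ * d₂) := by
  obtain ⟨S, hSdef⟩ : ∃ S : Submodule F V, S = W₁ ⊔ W₂ := ⟨_, rfl⟩
  rw [← hSdef]
  have hle₁ : W₁ ≤ S := hSdef ▸ le_sup_left
  have hle₂ : W₂ ≤ S := hSdef ▸ le_sup_right
  have hcompl : IsCompl (W₁.comap S.subtype) (W₂.comap S.subtype) := by
    constructor
    · rw [disjoint_iff, eq_bot_iff]
      intro x hx
      rw [Submodule.mem_inf, Submodule.mem_comap, Submodule.mem_comap] at hx
      have h1 : (x : V) ∈ W₁ ⊓ W₂ := Submodule.mem_inf.2 hx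
      rw [hdisj.eq_bot, Submodule.mem_bot] at h1
      rw [Submodule.mem_bot]
      exact Subtype.ext h1
    · rw [codisjoint_iff, eq_top_iff]
      intro x _
      have hx : (x : V) ∈ W₁ ⊔ W₂ := hSdef ▸ x.2
      obtain ⟨a, ha, b, hb, hab⟩ := Submodule.mem_sup.1 hx
      have : x = (⟨a, hle₁ ha⟩ : S) + ⟨b, hle₂ hb⟩ := Subtype.ext hab.symm
      rw [this]
      exact Submodule.add_mem _ (Submodule.mem_sup_left (by simpa using ha))
        (Submodule.mem_sup_right (by simpa using hb))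
  have e₁ := (h₁.map (B' := resForm (resForm B S) (W₁.comap S.subtype))
    (Submodule.comapSubtypeEquivOfLe hle₁).symm (fun x y => rfl))
  have e₂ := (h₂.map (B' := resForm (resForm B S) (W₂.comap S.subtype))
    (Submodule.comapSubtypeEquivOfLe hle₂).symm (fun x y => rfl))
  exact isDisc_of_isCompl (B := resForm B S) (symm_resForm hS S) hcompl
    (fun u hu w hw => horth u hu w hw) e₁ e₂

end disc

section sub
variable {F : Type u} [Field F] [Fintype F] {V : Type v} [AddCommGroup V] [Module F V]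
  [FiniteDimensional F V]

/-- **subspaces of prescribed dimension and discriminant** -/
theorem exists_sub_disc (h2 : (2 : F) ≠ 0) (hodd : Fintype.card F % 2 = 1)
    (B : V →ₗ[F] V →ₗ[F] F) (hS : Symm B) (hB : Nondeg B) (j : ℕ) (hj : 0 < j)
    (hjV : j < finrank F V) (δ : F) (hδ : δ ≠ 0) :
    ∃ W : Submodule F V, finrank F W = j ∧ IsDisc (resForm B W) δ := by
  classical
  obtain ⟨n, hn⟩ : ∃ n, finrank F V = n + 1 := ⟨finrank F V - 1, by omega⟩
  obtain ⟨j', rfl⟩ : ∃ j', j = j' + 1 := ⟨j - 1, by omega⟩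
  obtain ⟨e, b, he, hb⟩ := exists_diag h2 hodd n B hS hB hn
  have hj'n : j' < n := by omega
  have hone : ∀ k : Fin (n + 1), (k : ℕ) < n → B (b k) (b k) = 1 := by
    intro k hk
    rw [hb, if_pos rfl]
    unfold diagLast
    rw [if_neg]
    intro h
    rw [h] at hk
    simp at hk
  have hzero : ∀ k l : Fin (n + 1), (k : ℕ) ≠ (l : ℕ) → B (b k) (b l) = 0 := by
    intro k l hkl
    rw [hb, if_neg]
    intro h
    exact hkl (congrArg Fin.val h)
  obtain ⟨u, hu⟩ : ∃ u : Fin (n + 1), (u : ℕ) = j' := ⟨⟨j', by omega⟩, rfl⟩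
  obtain ⟨u', hu'⟩ : ∃ u' : Fin (n + 1), (u' : ℕ) = j' + 1 := ⟨⟨j' + 1, by omega⟩, rfl⟩
  have huu : B (b u) (b u) = 1 := hone u (by omega)
  obtain ⟨a', ha', hu'u'⟩ : ∃ a', a' ≠ 0 ∧ B (b u') (b u') = a' :=
    ⟨_, diagLast_ne_zero n he u', by rw [hb, if_pos rfl]⟩
  have huu' : B (b u) (b u') = 0 := hzero u u' (by omega)
  have hu'u : B (b u') (b u) = 0 := hzero u' u (by omega)
  obtain ⟨x, y, hxy⟩ := exists_repr_one hodd δ⁻¹ (a' * δ⁻¹) (inv_ne_zero hδ)
    (mul_ne_zero ha' (inv_ne_zero hδ))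
  obtain ⟨w, hw⟩ : ∃ w : V, w = x • b u + y • b u' := ⟨_, rfl⟩
  have hww : B w w = δ := by
    rw [hw]
    simp only [map_add, map_smul, LinearMap.add_apply, LinearMap.smul_apply, smul_eq_mul, huu,
      hu'u', huu', hu'u]
    field_simp at hxy
    linear_combination hxy
  have hbw : ∀ k : Fin (n + 1), (k : ℕ) < j' → B (b k) w = 0 ∧ B w (b k) = 0 := by
    intro k hk
    rw [hw]
    simp only [map_add, map_smul, LinearMap.add_apply, LinearMap.smul_apply, smul_eq_mul]
    rw [hzero k u (by omega), hzero k u' (by omega), hzero u k (by omega), hzero u' k (by omega)]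
    simp
  obtain ⟨b', hb'def⟩ : ∃ b' : Fin (j' + 1) → V,
      b' = fun k : Fin (j' + 1) => if h : (k : ℕ) < j' then b ⟨k, by omega⟩ else w := ⟨_, rfl⟩
  have hb'lt : ∀ k : Fin (j' + 1), ∀ h : (k : ℕ) < j', b' k = b ⟨k, by omega⟩ := by
    intro k h
    rw [hb'def]
    simp only [dif_pos h]
  have hb'ge : ∀ k : Fin (j' + 1), ¬ (k : ℕ) < j' → b' k = w := by
    intro k h
    rw [hb'def]
    simp only [dif_neg h]
  have hlast : ∀ k : Fin (j' + 1), (k = Fin.last j') ↔ ¬ (k : ℕ) < j' := by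
    intro k
    rw [Fin.ext_iff, Fin.val_last]
    have := k.2
    omega
  have hb' : ∀ k l, B (b' k) (b' l) = if k = l then diagLast j' δ k else 0 := by
    intro k l
    by_cases hk : (k : ℕ) < j' <;> by_cases hl : (l : ℕ) < j'
    · rw [hb'lt k hk, hb'lt l hl]
      by_cases hkl : k = l
      · subst hkl
        rw [if_pos rfl, hone _ (by simp only; omega)]
        unfold diagLast
        rw [if_neg ((hlast k).not.2 (not_not.2 hk))]
      · rw [if_neg hkl]
        apply hzero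
        intro h
        exact hkl (Fin.ext h)
    · rw [hb'lt k hk, hb'ge l hl, if_neg (fun h : k = l => hl (h ▸ hk))]
      exact (hbw _ hk).1
    · rw [hb'ge k hk, hb'lt l hl, if_neg (fun h : k = l => hk (h ▸ hl))]
      exact (hbw _ hl).2
    · rw [hb'ge k hk, hb'ge l hl, hww]
      have hkl : k = l := ((hlast k).2 hk).trans ((hlast l).2 hl).symm
      rw [if_pos hkl]
      unfold diagLast
      rw [if_pos ((hlast k).2 hk)]
  have hli : LinearIndependent F b' :=
    linearIndependent_of_diag B b' (diagLast j' δ) (diagLast_ne_zero j' hδ) hb'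
  refine ⟨Submodule.span F (Set.range b'), ?_, ?_⟩
  · rw [finrank_span_eq_card hli, Fintype.card_fin]
  · apply isDisc_of_diag (resForm B (Submodule.span F (Set.range b')))
      (fun k => ⟨b' k, Submodule.subset_span ⟨k, rfl⟩⟩) hδ
    · intro k l
      rw [resForm_apply]
      exact hb' k l
    · rw [finrank_span_eq_card hli, Fintype.card_fin]

end sub

end Cfsg.Agent.Lib.Helper5.OElus
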