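import Mathlib
import Cfsg.Agent.Lib.Helper5.OElus.Free

set_option autoImplicit false

/-!
# Nondegenerate subspaces of prescribed type
-/

namespace Cfsg.Agent.Lib.Helper5.OElus

open QuadraticMap Module Cfsg
open Cfsg.Agent.Lib.Helper5.QuadTwo Cfsg.Agent.Lib.Helper5.QuadSign
open Cfsg.Agent.Lib.Helper5.OrthPrime

universe u v

section gen
variable {F : Type u} [Field F] {V : Type v} [AddCommGroup V] [Module F V]

theorem symm_polarBilin (Q : QuadraticForm F V) : Symm (polarBilin Q) := fun x y => by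
  rw [polarBilin_apply_apply, polarBilin_apply_apply, polar_comm]

theorem nondeg_res_iff (Q : QuadraticForm F V) (W : Submodule F V) :
    Nondeg (resForm (polarBilin Q) W) ↔ NdOn Q W := by
  constructor
  · intro h v hv hvw
    have := h ⟨v, hv⟩ (fun w => by
      rw [resForm_apply, polarBilin_apply_apply]
      exact hvw w.1 w.2)
    exact congrArg Subtype.val this
  · intro h v hv
    apply Subtype.ext
    apply h v.1 v.2
    intro w hw
    have := hv ⟨w, hw⟩
    rwa [resForm_apply, polarBilin_apply_apply] at this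

end gen

section typed
variable {F : Type u} [Field F] [Fintype F] {V : Type u} [AddCommGroup V] [Module F V]
  [FiniteDimensional F V]

/-- **the type of a nondegenerate subspace of even dimension in terms of its discriminant** -/
theorem plusOn_iff_disc (hq : Odd (Fintype.card F)) (Q : QuadraticForm F V) (W : Submodule F V)
    (k : ℕ) (hk1 : 1 ≤ k) (hk : finrank F W = 2 * k) (hnd : NdOn Q W) {δ : F}
    (hδ : IsDisc (resForm (polarBilin Q) W) δ) :
    PlusOn Q W ↔ (IsSquare δ ↔ Even (k * (Fintype.card F - 1) / 2)) := by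
  have h2 : (2 : F) ≠ 0 := Cfsg.Agent.Lib.Helper5.two_ne_zero_of_odd_card hq
  obtain ⟨n, b, rfl⟩ := hδ
  rw [gram_eq_toMatrix]
  have hB' : LinearMap.BilinForm.Nondegenerate (resForm (polarBilin Q) W) := by
    constructor
    · intro x hx
      apply Subtype.ext
      apply hnd x.1 x.2
      intro w hw
      have := hx ⟨w, hw⟩
      rw [resForm_apply, polarBilin_apply_apply, polar_comm] at this
      exact this
    · intro y hy
      apply Subtype.ext
      apply hnd y.1 y.2
      intro w hw
      have := hy ⟨w, hw⟩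
      rwa [resForm_apply, polarBilin_apply_apply] at this
  have hS' : LinearMap.BilinForm.IsSymm (resForm (polarBilin Q) W) :=
    ⟨fun x y => by
      rw [resForm_apply, resForm_apply, polarBilin_apply_apply, polarBilin_apply_apply,
        polar_comm]⟩
  constructor
  · rintro ⟨U, hUW, hU, hUd⟩
    apply Cfsg.Agent.Lib.Helper5.DiscType.isSquare_det_iff_of_isotropic hq _ hB' hS' k hk b
      (U.comap W.subtype)
    · rw [(Submodule.comapSubtypeEquivOfLe hUW).finrank_eq]
      omega
    · intro x hx y hy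
      rw [resForm_apply, polarBilin_apply_apply]
      unfold polar
      have hx' : Q (x : V) = 0 := hU _ hx
      have hy' : Q (y : V) = 0 := hU _ hy
      have hxy' : Q ((x : V) + (y : V)) = 0 := hU _ (U.add_mem hx hy)
      rw [hx', hy', hxy']
      simp
  · intro h
    obtain ⟨X, hXd, hX⟩ := Cfsg.Agent.Lib.Helper5.DiscType.exists_isotropic_of_isSquare_det_iff
      hq _ hB' hS' k hk1 hk b h
    refine ⟨X.map W.subtype, ?_, ?_, ?_⟩
    · intro x hx
      obtain ⟨y, -, rfl⟩ := Submodule.mem_map.1 hx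
      exact y.2
    · intro x hx
      obtain ⟨y, hy, rfl⟩ := Submodule.mem_map.1 hx
      have h1 := hX y hy y hy
      rw [resForm_apply, polarBilin_apply_apply, polar_self, nsmul_eq_mul, Nat.cast_ofNat] at h1
      exact (mul_eq_zero.1 h1).resolve_left h2
    · rw [(Submodule.equivSubtypeMap W X).symm.finrank_eq, hXd, hk]

/-- **nondegenerate subspaces of prescribed type**: a free summand `W₀` inside `C`, of dimension
`0 < j < dim C`, can be chosen so that `W₀ ⊥ U` has any prescribed type -/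
theorem exists_typed_sup (hq : Odd (Fintype.card F)) (Q : QuadraticForm F V)
    (C U : Submodule F V) (horth : ∀ c ∈ C, ∀ u ∈ U, polar Q c u = 0) (hC : NdOn Q C)
    (hU : NdOn Q U) (j k : ℕ) (hj : 0 < j) (hjC : j < finrank F C)
    (hk : j + finrank F U = 2 * k) (plus : Prop) :
    ∃ W₀ : Submodule F V, W₀ ≤ C ∧ finrank F (W₀ ⊔ U : Submodule F V) = 2 * k ∧
      NdOn Q (W₀ ⊔ U) ∧ (PlusOn Q (W₀ ⊔ U) ↔ plus) := by
  classical
  have h2 : (2 : F) ≠ 0 := Cfsg.Agent.Lib.Helper5.two_ne_zero_of_odd_card hq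
  have hodd : Fintype.card F % 2 = 1 := Nat.odd_iff.1 hq
  have hS : Symm (polarBilin Q) := symm_polarBilin Q
  obtain ⟨dU, hdU⟩ := exists_isDisc (resForm (polarBilin Q) U)
  have hdU0 : dU ≠ 0 := hdU.ne_zero (symm_resForm hS U) ((nondeg_res_iff Q U).2 hU)
  obtain ⟨E, hE⟩ : ∃ E : Prop, E = Even (k * (Fintype.card F - 1) / 2) := ⟨_, rfl⟩
  obtain ⟨t, ht0, ht⟩ : ∃ t : F, t ≠ 0 ∧ (IsSquare t ↔ (E ↔ plus)) := by
    by_cases hP : (E ↔ plus)
    · exact ⟨1, one_ne_zero, by simp [hP]⟩
    · have hF : ringChar F ≠ 2 := by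
        intro h
        have h3 : ((2 : ℕ) : F) = 0 := by rw [← h]; exact ringChar.Nat.cast_ringChar
        exact h2 (by exact_mod_cast h3)
      obtain ⟨a, ha⟩ := FiniteField.exists_nonsquare hF
      refine ⟨a, ?_, by simp [hP, ha]⟩
      rintro rfl
      exact ha ⟨0, by simp⟩
  obtain ⟨W₀', hW₀'d, hW₀'disc⟩ := exists_sub_disc h2 hodd (resForm (polarBilin Q) C)
    (symm_resForm hS C) ((nondeg_res_iff Q C).2 hC) j hj hjC (t * dU) (mul_ne_zero ht0 hdU0)
  have hW₀disc : IsDisc (resForm (polarBilin Q) (W₀'.map C.subtype)) (t * dU) :=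
    hW₀'disc.map (B' := resForm (polarBilin Q) (W₀'.map C.subtype))
      (Submodule.equivSubtypeMap C W₀') (fun x y => rfl)
  have hW₀C : W₀'.map C.subtype ≤ C := by
    intro x hx
    obtain ⟨y, -, rfl⟩ := Submodule.mem_map.1 hx
    exact y.2
  have hdisj : Disjoint (W₀'.map C.subtype) U := by
    rw [disjoint_iff, eq_bot_iff]
    intro x hx
    rw [Submodule.mem_inf] at hx
    rw [Submodule.mem_bot]
    apply hC x (hW₀C hx.1)
    intro c hc
    exact horth c hc x hx.2
  have hsup := isDisc_sup hS (W₀'.map C.subtype) U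
    (fun u hu w hw => by
      rw [polarBilin_apply_apply]
      exact horth u (hW₀C hu) w hw) hdisj hW₀disc hdU
  have hne : t * dU * dU ≠ 0 := mul_ne_zero (mul_ne_zero ht0 hdU0) hdU0
  have hnd : NdOn Q (W₀'.map C.subtype ⊔ U) := (nondeg_res_iff Q _).1 (nondeg_of_isDisc hsup hne)
  have hfr : finrank F (W₀'.map C.subtype ⊔ U : Submodule F V) = 2 * k := by
    have h1 := Submodule.finrank_sup_add_finrank_inf_eq (W₀'.map C.subtype) U
    rw [hdisj.eq_bot, finrank_bot, add_zero, (Submodule.equivSubtypeMap C W₀').symm.finrank_eq,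
      hW₀'d] at h1
    rw [h1, hk]
  refine ⟨W₀'.map C.subtype, hW₀C, hfr, hnd, ?_⟩
  rw [plusOn_iff_disc hq Q _ k (by omega) hfr hnd hsup, ← hE]
  have hsq : IsSquare (t * dU * dU) ↔ IsSquare t := by
    constructor
    · rintro ⟨s, hs⟩
      refine ⟨s / dU, ?_⟩
      field_simp
      linear_combination hs
    · rintro ⟨s, hs⟩
      exact ⟨s * dU, by rw [hs]; ring⟩
  rw [hsq, ht]
  tauto

end typed

end Cfsg.Agent.Lib.Helper5.OElus
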