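import Mathlib
import Cfsg.Agent.Lib.Helper5.OElus.Typed

set_option autoImplicit false

/-!
# Involutions fix nondegenerate subspaces of every even dimension and both types
-/

namespace Cfsg.Agent.Lib.Helper5.OElus

open QuadraticMap Module Cfsg
open Cfsg.Agent.Lib.Helper5.QuadTwo Cfsg.Agent.Lib.Helper5.QuadSign
open Cfsg.Agent.Lib.Helper5.OrthPrime

universe u

section two
variable {F : Type u} [Field F] [Fintype F] {V : Type u} [AddCommGroup V] [Module F V]
  [FiniteDimensional F V]

/-- an invariant nondegenerate subspace of prescribed type, built from a free part inside a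
subspace on which `g` is a scalar and an invariant orthogonal part -/
theorem exists_typed_inv (hq : Odd (Fintype.card F)) (Q : QuadraticForm F V) (g : V →ₗ[F] V)
    (C U : Submodule F V) (s : F) (hCs : ∀ x ∈ C, g x = s • x) (hUg : ∀ x ∈ U, g x ∈ U)
    (horth : ∀ c ∈ C, ∀ u ∈ U, polar Q c u = 0) (hC : NdOn Q C)
    (hU : NdOn Q U) (j k : ℕ) (hj : 0 < j) (hjC : j < finrank F C)
    (hk : j + finrank F U = 2 * k) (plus : Prop) :
    ∃ W : Submodule F V, finrank F W = 2 * k ∧ NdOn Q W ∧ (PlusOn Q W ↔ plus) ∧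
      ∀ x ∈ W, g x ∈ W := by
  obtain ⟨W₀, hW₀C, hfr, hnd, hpl⟩ := exists_typed_sup hq Q C U horth hC hU j k hj hjC hk plus
  refine ⟨W₀ ⊔ U, hfr, hnd, hpl, ?_⟩
  intro x hx
  obtain ⟨a, ha, b, hb, rfl⟩ := Submodule.mem_sup.1 hx
  rw [map_add]
  apply Submodule.add_mem
  · apply Submodule.mem_sup_left
    rw [hCs a (hW₀C ha)]
    exact W₀.smul_mem s ha
  · exact Submodule.mem_sup_right (hUg b hb)

omit [Fintype F] [FiniteDimensional F V] in
theorem ndOn_bot (Q : QuadraticForm F V) : NdOn Q ⊥ := by
  intro v hv _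
  exact (Submodule.mem_bot F).1 hv

/-- **involutions**: an isometry `g` with `g ∘ g = 1` of a nondegenerate space of dimension `n`
fixes nondegenerate subspaces of every even dimension `2 ≤ m < n` and of both types -/
theorem exists_typed_of_involution (hq : Odd (Fintype.card F)) (Q : QuadraticForm F V)
    (hQ : Nd Q) (g : V →ₗ[F] V) (hiso : ∀ x, Q (g x) = Q x) (hgg : ∀ v, g (g v) = v)
    (k : ℕ) (hk1 : 1 ≤ k) (hkn : 2 * k < finrank F V) (plus : Prop) :
    ∃ W : Submodule F V, finrank F W = 2 * k ∧ NdOn Q W ∧ (PlusOn Q W ↔ plus) ∧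
      ∀ x ∈ W, g x ∈ W := by
  have h2 : (2 : F) ≠ 0 := Cfsg.Agent.Lib.Helper5.two_ne_zero_of_odd_card hq
  have hS : Symm (polarBilin Q) := symm_polarBilin Q
  have hB : Nondeg (polarBilin Q) := fun v hv => hQ v (fun w => by
    have := hv w
    rwa [polarBilin_apply_apply] at this)
  have hpol : ∀ x y, polar Q (g x) (g y) = polar Q x y := by
    intro x y
    unfold polar
    rw [← map_add, hiso, hiso, hiso]
  obtain ⟨Ep, hEp⟩ : ∃ Ep : Submodule F V, Ep = LinearMap.ker (g - 1) := ⟨_, rfl⟩
  obtain ⟨Em, hEm⟩ : ∃ Em : Submodule F V, Em = LinearMap.ker (g + 1) := ⟨_, rfl⟩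
  have memp : ∀ x, x ∈ Ep ↔ g x = x := by
    intro x
    rw [hEp, LinearMap.mem_ker, LinearMap.sub_apply, Module.End.one_apply, sub_eq_zero]
  have memm : ∀ x, x ∈ Em ↔ g x = -x := by
    intro x
    rw [hEm, LinearMap.mem_ker, LinearMap.add_apply, Module.End.one_apply, add_eq_zero_iff_eq_neg]
  have hcompl : IsCompl Ep Em := by
    constructor
    · rw [disjoint_iff, eq_bot_iff]
      intro x hx
      rw [Submodule.mem_inf, memp, memm] at hx
      rw [Submodule.mem_bot]
      have h1 : (2 : F) • x = 0 := by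
        rw [two_smul]
        nth_rewrite 1 [← hx.1]
        rw [hx.2, neg_add_cancel]
      exact (smul_eq_zero.1 h1).resolve_left h2
    · rw [codisjoint_iff, eq_top_iff]
      intro x _
      have h1 : x = (2 : F)⁻¹ • (x + g x) + (2 : F)⁻¹ • (x - g x) := by
        rw [← smul_add, add_add_sub_cancel, ← two_smul F x, smul_smul, inv_mul_cancel₀ h2,
          one_smul]
      rw [h1]
      apply Submodule.add_mem
      · apply Submodule.mem_sup_left
        rw [memp, map_smul, map_add, hgg, add_comm]
      · apply Submodule.mem_sup_right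
        rw [memm, map_smul, map_sub, hgg, ← smul_neg, neg_sub]
  have horth : ∀ u ∈ Ep, ∀ w ∈ Em, polar Q u w = 0 := by
    intro u hu w hw
    have h1 := hpol u w
    rw [(memp u).1 hu, (memm w).1 hw, polar_neg_right] at h1
    have h3 : (2 : F) * polar Q u w = 0 := by linear_combination -h1
    exact (mul_eq_zero.1 h3).resolve_left h2
  have horth' : ∀ w ∈ Em, ∀ u ∈ Ep, polar Q w u = 0 := by
    intro w hw u hu
    rw [polar_comm]
    exact horth u hu w hw
  have hEpnd : NdOn Q Ep := (nondeg_res_iff Q Ep).1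
    (nondeg_of_isCompl hS hB hcompl (fun u hu w hw => by
      rw [polarBilin_apply_apply]; exact horth u hu w hw))
  have hEmnd : NdOn Q Em := (nondeg_res_iff Q Em).1
    (nondeg_of_isCompl hS hB hcompl.symm (fun u hu w hw => by
      rw [polarBilin_apply_apply]; exact horth' u hu w hw))
  have hdim := Submodule.finrank_add_eq_of_isCompl hcompl
  have hEpg : ∀ x ∈ Ep, g x = (1 : F) • x := fun x hx => by rw [one_smul]; exact (memp x).1 hx
  have hEmg : ∀ x ∈ Em, g x = (-1 : F) • x := fun x hx => by
    rw [neg_smul, one_smul]; exact (memm x).1 hx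
  rcases lt_trichotomy (2 * k) (finrank F Ep) with hlt | heq | hgt
  · -- inside `Ep`
    exact exists_typed_inv hq Q g Ep ⊥ 1 hEpg
      (fun x hx => by rw [(Submodule.mem_bot F).1 hx, map_zero]; exact Submodule.zero_mem _)
      (fun c _ u hu => by rw [(Submodule.mem_bot F).1 hu, polar_zero_right]) hEpnd (ndOn_bot Q)
      (2 * k) k (by omega) hlt (by rw [finrank_bot, add_zero]) plus
  · -- a line of `Em` and a free part of `Ep`
    have hEm0 : 0 < finrank F Em := by omega
    have : Nontrivial Em := Module.finrank_pos_iff.1 hEm0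
    obtain ⟨v, hv⟩ := exists_anisotropic h2 (resForm (polarBilin Q) Em) (symm_resForm hS Em)
      ((nondeg_res_iff Q Em).2 hEmnd)
    rw [resForm_apply, polarBilin_apply_apply] at hv
    have hv0 : (v : V) ≠ 0 := by
      intro h
      rw [h, polar_zero_left] at hv
      exact hv rfl
    have hspan : ∀ x ∈ Submodule.span F {(v : V)}, ∃ a : F, x = a • (v : V) := by
      intro x hx
      obtain ⟨a, rfl⟩ := Submodule.mem_span_singleton.1 hx
      exact ⟨a, rfl⟩
    have hspanEm : Submodule.span F {(v : V)} ≤ Em := by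
      rw [Submodule.span_singleton_le_iff_mem]
      exact v.2
    refine exists_typed_inv hq Q g Ep (Submodule.span F {(v : V)}) 1 hEpg ?_ ?_ hEpnd ?_
      (2 * k - 1) k (by omega) (by omega) ?_ plus
    · intro x hx
      rw [(memm x).1 (hspanEm hx)]
      exact Submodule.neg_mem _ hx
    · intro c hc u hu
      exact horth c hc u (hspanEm hu)
    · intro x hx hxw
      obtain ⟨a, rfl⟩ := hspan x hx
      have h1 := hxw (v : V) (Submodule.mem_span_singleton_self _)
      rw [polar_smul_right, smul_eq_mul] at h1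
      rw [(mul_eq_zero.1 h1).resolve_right hv, zero_smul]
    · rw [finrank_span_singleton hv0]
      omega
  · -- all of `Ep` and a free part of `Em`
    exact exists_typed_inv hq Q g Em Ep (-1) hEmg
      (fun x hx => by rw [(memp x).1 hx]; exact hx) horth' hEmnd hEpnd
      (2 * k - finrank F Ep) k (by omega) (by omega) (by omega) plus

end two

end Cfsg.Agent.Lib.Helper5.OElus
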