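import Mathlib

set_option autoImplicit false

/-!
# The arithmetic conditions
-/

namespace Cfsg.Agent.Lib.Helper5.OElus

theorem mod_pos_of_even_odd (c n : ℕ) (hc : Even c) (hn : Odd n) : 0 < n % c := by
  rw [Nat.pos_iff_ne_zero]
  intro h
  have h1 : c ∣ n := Nat.dvd_of_mod_eq_zero h
  have h2 : 2 ∣ n := (even_iff_two_dvd.1 hc).trans h1
  rw [Nat.odd_iff] at hn
  omega

theorem even_c (i c : ℕ) (hc : c = if Even i then i else 2 * i) : Even c := by
  rw [hc]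
  split_ifs with h
  · exact h
  · exact even_two_mul i

theorem rhs_plus_iff (r i c m n : ℕ) (hc : c = if Even i then i else 2 * i) (hn : Odd n) :
    (r = 2 ∨ (2 < r ∧ c ≤ m ∧ m % c < n % c ∧
      (m % c = 0 → (Even i → (True ↔ Even (m / i))) ∧ (¬ Even i → True)))) ↔
    (r = 2 ∨ (2 < r ∧ Odd i ∧ c ≤ m ∧ (m % c = 0 ∨ (0 < m % c ∧ m % c < n % c))) ∨
      (2 < r ∧ Even i ∧ i ≤ m ∧ m % c < n % c ∧ (0 < m % c ∨ Even (m / i)))) := by
  have h0 : 0 < n % c := mod_pos_of_even_odd c n (even_c i c hc) hn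
  have hpos : 0 < m % c ↔ ¬ m % c = 0 := Nat.pos_iff_ne_zero
  have h0' : m % c = 0 → m % c < n % c := fun h => by rw [h]; exact h0
  by_cases hev : Even i
  · have hci : c = i := by rw [hc, if_pos hev]
    have hno : ¬ Odd i := Nat.not_odd_iff_even.2 hev
    rw [hci] at hpos h0' ⊢
    tauto
  · have hodd : Odd i := Nat.not_even_iff_odd.1 hev
    tauto

theorem rhs_minus_iff (r i c m n : ℕ) (hc : c = if Even i then i else 2 * i) :
    (r = 2 ∨ (2 < r ∧ c ≤ m ∧ m % c < n % c ∧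
      (m % c = 0 → (Even i → (False ↔ Even (m / i))) ∧ (¬ Even i → False)))) ↔
    (r = 2 ∨ (2 < r ∧ Odd i ∧ c ≤ m ∧ 0 < m % c ∧ m % c < n % c) ∨
      (2 < r ∧ Even i ∧ i ≤ m ∧ m % c < n % c ∧ (0 < m % c ∨ Odd (m / i)))) := by
  have hpos : 0 < m % c ↔ ¬ m % c = 0 := Nat.pos_iff_ne_zero
  have hoe : Odd (m / i) ↔ ¬ Even (m / i) := Nat.not_even_iff_odd.symm
  by_cases hev : Even i
  · have hci : c = i := by rw [hc, if_pos hev]
    have hno : ¬ Odd i := Nat.not_odd_iff_even.2 hev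
    rw [hci] at hpos ⊢
    tauto
  · have hodd : Odd i := Nat.not_even_iff_odd.1 hev
    tauto

end Cfsg.Agent.Lib.Helper5.OElus
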