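import Mathlib
import Cfsg.Agent.Lib.Helper5.OElus.Typed
import Cfsg.Agent.Lib.Helper5.QuadIsom
import Cfsg.Agent.Lib.Helper2.SpImpD
import Cfsg.Agent.Lib.Helper2.SpTiB

set_option autoImplicit false

/-!
# Counting nondegenerate subspaces of a given type: transitivity, fixed points
-/

namespace Cfsg.Agent.Lib.Helper5.OElus

open QuadraticMap Module Cfsg
open Cfsg.Agent.Lib.Helper5.QuadTwo Cfsg.Agent.Lib.Helper5.QuadSign
open Cfsg.Agent.Lib.Helper5.OrthPrime Cfsg.Agent.Lib.Helper2 Cfsg.Agent.Lib.Helper2.SpImp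

universe u

section typed
variable {F : Type u} [Field F] [Fintype F] {V : Type u} [AddCommGroup V] [Module F V]
  [FiniteDimensional F V]

/-- nondegenerate of dimension `2k` and of the prescribed type -/
def Typed (Q : QuadraticForm F V) (k : ℕ) (plus : Prop) (W : Submodule F V) : Prop :=
  finrank F W = 2 * k ∧ NdOn Q W ∧ (PlusOn Q W ↔ plus)

omit [Fintype F] [FiniteDimensional F V] in
theorem polar_of_isom' (Q : QuadraticForm F V) (g : V →ₗ[F] V) (hg : ∀ x, Q (g x) = Q x)
    (x y : V) : polar Q (g x) (g y) = polar Q x y := by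
  unfold polar
  rw [← map_add, hg, hg, hg]

omit [Fintype F] [FiniteDimensional F V] in
theorem plusOn_map (Q : QuadraticForm F V) (g : V ≃ₗ[F] V) (hg : ∀ x, Q (g x) = Q x)
    (W : Submodule F V) (h : PlusOn Q W) : PlusOn Q (W.map (g : V →ₗ[F] V)) := by
  obtain ⟨U, hUW, hU, hUd⟩ := h
  refine ⟨U.map (g : V →ₗ[F] V), Submodule.map_mono hUW, ?_, ?_⟩
  · rintro _ ⟨u, hu, rfl⟩
    rw [LinearEquiv.coe_coe, hg]
    exact hU u hu
  · rw [LinearEquiv.finrank_map_eq g U, LinearEquiv.finrank_map_eq g W]
    exact hUd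

omit [Fintype F] [FiniteDimensional F V] in
theorem typed_map (Q : QuadraticForm F V) (g : V ≃ₗ[F] V) (hg : ∀ x, Q (g x) = Q x) (k : ℕ)
    (plus : Prop) (W : Submodule F V) (h : Typed Q k plus W) :
    Typed Q k plus (W.map (g : V →ₗ[F] V)) := by
  obtain ⟨h1, h2, h3⟩ := h
  refine ⟨by rw [LinearEquiv.finrank_map_eq g W]; exact h1, ?_, ?_⟩
  · rintro _ ⟨w, hw, rfl⟩ hv
    rw [LinearEquiv.coe_coe]
    rw [h2 w hw (fun w' hw' => by
      have := hv (g w') ⟨w', hw', rfl⟩
      rw [LinearEquiv.coe_coe] at this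
      have h5 := polar_of_isom' Q (g : V →ₗ[F] V) hg w' w
      rw [LinearEquiv.coe_coe] at h5
      rw [← h5]
      exact this), map_zero]
  · rw [← h3]
    constructor
    · intro h
      have h4 := plusOn_map Q g.symm (fun x => by
        have := hg (g.symm x)
        rw [LinearEquiv.apply_symm_apply] at this
        exact this.symm) _ h
      have h5 : (W.map (g : V →ₗ[F] V)).map (g.symm : V →ₗ[F] V) = W := by
        rw [← Submodule.map_comp]
        have : (g.symm : V →ₗ[F] V) ∘ₗ (g : V →ₗ[F] V) = LinearMap.id := by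
          ext x
          simp
        rw [this, Submodule.map_id]
      rwa [h5] at h4
    · exact plusOn_map Q g hg W

/-- the fixed point congruence for an element of prime order acting on the subspaces satisfying
an invariant property -/
theorem card_pred_fix_modEq {y : Module.End F V} (r : ℕ) [hr : Fact r.Prime] (hy : y ^ r = 1)
    (P : Submodule F V → Prop) (hP : ∀ W, P W → P (W.map y)) :
    Nat.card {W : Submodule F V // P W} ≡
      Nat.card {W : Submodule F V // P W ∧ Elus.Inv y W} [MOD r] := by
  classical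
  have hr0 : 0 < r := hr.out.pos
  have : Finite (Submodule F V) := Imp.finite_submodule
  have : Fintype {W : Submodule F V // P W} := Fintype.ofFinite _
  let φ : Function.End {W : Submodule F V // P W} := fun W => ⟨W.1.map y, hP W.1 W.2⟩
  have hφk : ∀ (k : ℕ) (W : {W : Submodule F V // P W}), ((φ ^ k) W).1 = W.1.map (y ^ k) := by
    intro k
    induction k with
    | zero =>
      intro W
      rw [pow_zero, pow_zero]
      exact (Submodule.map_id _).symm
    | succ k ih =>
      intro W
      rw [pow_succ', pow_succ']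
      show ((φ ^ k) W).1.map y = _
      rw [ih, ← Submodule.map_comp]
      rfl
  have hφr : φ ^ r ^ 1 = 1 := by
    funext W
    apply Subtype.ext
    rw [pow_one, hφk, hy]
    exact Submodule.map_id _
  have h := Equiv.Perm.card_fixedPoints_modEq (f := φ) (p := r) (n := 1) hφr
  rw [Fintype.card_eq_nat_card, Fintype.card_eq_nat_card] at h
  have hcard : Nat.card ↑(Function.fixedPoints φ) =
      Nat.card {W : Submodule F V // P W ∧ Elus.Inv y W} :=
    Nat.card_congr
      { toFun := fun W => ⟨W.1.1, W.1.2,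
          Elus.inv_iff_map_le.2 (le_of_eq (congrArg Subtype.val W.2))⟩
        invFun := fun W => ⟨⟨W.1, W.2.1⟩, Subtype.ext (Imp.map_eq_of_inv hr0 hy W.2.2)⟩
        left_inv := fun W => rfl
        right_inv := fun W => rfl }
  rw [hcard] at h
  exact h

end typed

end Cfsg.Agent.Lib.Helper5.OElus
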