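import Mathlib
import Cfsg.Agent.Lib.Helper5.OElus.Count

set_option autoImplicit false

/-!
# Typed subspaces contained in a given subspace
-/

namespace Cfsg.Agent.Lib.Helper5.OElus

open QuadraticMap Module Cfsg
open Cfsg.Agent.Lib.Helper5.QuadTwo Cfsg.Agent.Lib.Helper5.QuadSign

universe u

section sub
variable {F : Type u} [Field F] [Fintype F] {V : Type u} [AddCommGroup V] [Module F V]
  [FiniteDimensional F V]

omit [Fintype F] [FiniteDimensional F V] in
theorem ndOn_map_subtype_iff (Q : QuadraticForm F V) (C : Submodule F V) (W' : Submodule F C) :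
    NdOn Q (W'.map C.subtype) ↔ NdOn (res Q C) W' := by
  constructor
  · intro h v hv hvw
    apply Subtype.ext
    apply h v.1 ⟨v, hv, rfl⟩
    rintro _ ⟨w, hw, rfl⟩
    have := hvw w hw
    rwa [polar_res] at this
  · rintro h _ ⟨v, hv, rfl⟩ hvw
    rw [h v hv (fun w hw => by
      rw [polar_res]
      exact hvw w.1 ⟨w, hw, rfl⟩)]
    rfl

omit [Fintype F] [FiniteDimensional F V] in
theorem plusOn_map_subtype_iff (Q : QuadraticForm F V) (C : Submodule F V) (W' : Submodule F C) :
    PlusOn Q (W'.map C.subtype) ↔ PlusOn (res Q C) W' := by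
  constructor
  · rintro ⟨U, hUW, hU, hUd⟩
    have hUC : U ≤ C := by
      intro x hx
      obtain ⟨y, -, rfl⟩ := Submodule.mem_map.1 (hUW hx)
      exact y.2
    refine ⟨U.comap C.subtype, ?_, ?_, ?_⟩
    · intro x hx
      obtain ⟨y, hy, hyx⟩ := Submodule.mem_map.1 (hUW (Submodule.mem_comap.1 hx))
      have : y = x := Subtype.ext hyx
      rwa [← this]
    · intro x hx
      rw [res_apply]
      exact hU _ hx
    · rw [(Submodule.comapSubtypeEquivOfLe hUC).finrank_eq, hUd,
        (Submodule.equivSubtypeMap C W').symm.finrank_eq]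
  · rintro ⟨U', hUW, hU, hUd⟩
    refine ⟨U'.map C.subtype, Submodule.map_mono hUW, ?_, ?_⟩
    · rintro _ ⟨u, hu, rfl⟩
      have := hU u hu
      rwa [res_apply] at this
    · rw [(Submodule.equivSubtypeMap C U').symm.finrank_eq,
        (Submodule.equivSubtypeMap C W').symm.finrank_eq]
      exact hUd

omit [Fintype F] [FiniteDimensional F V] in
theorem typed_map_subtype_iff (Q : QuadraticForm F V) (C : Submodule F V) (k : ℕ) (plus : Prop)
    (W' : Submodule F C) : Typed Q k plus (W'.map C.subtype) ↔ Typed (res Q C) k plus W' := by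
  unfold Typed
  rw [ndOn_map_subtype_iff, plusOn_map_subtype_iff,
    (Submodule.equivSubtypeMap C W').symm.finrank_eq]

omit [Fintype F] [FiniteDimensional F V] in
/-- the typed subspaces contained in `C` are the typed subspaces of `C` -/
theorem card_typed_sub_eq (Q : QuadraticForm F V) (C : Submodule F V) (k : ℕ) (plus : Prop) :
    Nat.card {W : Submodule F V // Typed Q k plus W ∧ W ≤ C} =
      Nat.card {W' : Submodule F C // Typed (res Q C) k plus W'} := by
  symm
  refine Nat.card_eq_of_bijective
    (fun W' => ⟨W'.1.map C.subtype, (typed_map_subtype_iff Q C k plus W'.1).2 W'.2, ?_⟩) ⟨?_, ?_⟩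
  · intro x hx
    obtain ⟨y, -, rfl⟩ := Submodule.mem_map.1 hx
    exact y.2
  · intro W₁ W₂ h
    have h1 := congrArg Subtype.val h
    exact Subtype.ext (Submodule.map_injective_of_injective C.injective_subtype h1)
  · rintro ⟨W, hW, hWC⟩
    have hmap : (W.comap C.subtype).map C.subtype = W := by
      rw [Submodule.map_comap_subtype]
      exact inf_eq_right.2 hWC
    refine ⟨⟨W.comap C.subtype, ?_⟩, Subtype.ext hmap⟩
    rw [← typed_map_subtype_iff, hmap]
    exact hW

end sub

end Cfsg.Agent.Lib.Helper5.OElus
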