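import Mathlib
import Cfsg.Agent.Lib.Helper5.OElus.Mod
import Cfsg.Agent.Lib.Helper5.OrthPrime.OConj
import Cfsg.Agent.Lib.Helper2.SpImpC

set_option autoImplicit false

/-!
# Invariant nondegenerate subspaces of the moving part of an isometry of odd prime order
-/

namespace Cfsg.Agent.Lib.Helper5.OElus

open Module Cfsg
open Cfsg.Agent.Lib.Helper5.OrthPrime Cfsg.Agent.Lib.Helper2 Cfsg.Agent.Lib.Helper2.SpImp

universe u v

section grow
variable {F : Type u} [Field F] {V : Type v} [AddCommGroup V] [Module F V]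

/-- a subspace invariant under `g` is invariant under its inverse, when `g` has finite order -/
theorem gi_mem_of_inv (g gi : V →ₗ[F] V) (gi_g : ∀ x, gi (g x) = x) (r : ℕ) (hr0 : 0 < r)
    (hgr : g ^ r = 1) (U : Submodule F V) (hU : ∀ x ∈ U, g x ∈ U) : ∀ x ∈ U, gi x ∈ U := by
  intro x hx
  obtain ⟨k, rfl⟩ : ∃ k, r = k + 1 := ⟨r - 1, by omega⟩
  have h1 : ∀ n : ℕ, (g ^ n) x ∈ U := by
    intro n
    induction n with
    | zero => simpa using hx
    | succ n ih =>
      rw [pow_succ', Module.End.mul_apply]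
      exact hU _ ih
  have h2 : g ((g ^ k) x) = x := by
    rw [← Module.End.mul_apply, ← pow_succ', hgr, Module.End.one_apply]
  have h3 : gi x = (g ^ k) x := by
    conv_lhs => rw [← h2]
    exact gi_g _
  rw [h3]
  exact h1 k

variable [Fintype F] [FiniteDimensional F V]

/-- **invariant nondegenerate subspaces of the moving part**, of every dimension divisible by
`c` -/
theorem exists_inv_nd_sub (D : OData F V) {p f₀ : ℕ} [hp : Fact p.Prime]
    (hq : Fintype.card F = p ^ f₀) [hr : Fact D.r.Prime] (hr2 : D.r ≠ 2) (hrp : D.r ≠ p)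
    (hrq : ¬ D.r ∣ Fintype.card F) (i c : ℕ)
    (hi : i = orderOf ((Fintype.card F : ℕ) : ZMod D.r)) (hc : c = if Even i then i else 2 * i)
    (b : ℕ) (hb : c * b ≤ finrank F D.W) :
    ∃ U : Submodule F V, U ≤ D.W ∧ finrank F U = c * b ∧ (∀ x ∈ U, D.g x ∈ U) ∧
      (∀ x ∈ U, D.gi x ∈ U) ∧ (∀ v ∈ U, (∀ w ∈ U, D.B w v = 0) → v = 0) := by
  obtain ⟨AM, hAM⟩ : ∃ AM : LinearMap.BilinForm F D.W, AM = D.A.domRestrict₁₂ D.W D.W :=
    ⟨_, rfl⟩
  obtain ⟨y, hy⟩ : ∃ y : Module.End F D.W, y = D.g.restrict D.g_mem_W := ⟨_, rfl⟩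
  have hAMapp : ∀ x z : D.W, AM x z = D.A x z := fun x z => by rw [hAM]; rfl
  have hyapp : ∀ x : D.W, ((y x : D.W) : V) = D.g x := fun x => by rw [hy]; rfl
  have hA : AM.IsAlt := fun x => by rw [hAMapp]; exact D.A_self x
  have hright : ∀ v : D.W, (∀ w : D.W, AM w v = 0) → v = 0 := by
    intro v hv
    apply Subtype.ext
    apply D.A_nondeg_W v v.2
    intro w hw
    have := hv ⟨w, hw⟩
    rwa [hAMapp] at this
  have hB : AM.Nondegenerate := by
    constructor
    · intro x hx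
      apply hright x
      intro w
      rw [hAMapp, D.A_skew, ← hAMapp, hx, neg_zero]
    · exact hright
  have hyB : IsIsom AM y := by
    intro u v
    rw [hAMapp, hAMapp, hyapp, hyapp]
    exact D.A_isom u v
  have hyr : y ^ D.r = 1 := by
    rw [hy, Module.End.pow_restrict D.r D.g_mem_W]
    apply LinearMap.ext
    intro x
    apply Subtype.ext
    show (D.g ^ D.r) (x : V) = x
    exact D.g_pow_apply x
  have hN : ND AM ⊤ := by
    unfold ND
    rw [disjoint_iff, eq_bot_iff]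
    intro x hx
    rw [Submodule.mem_inf] at hx
    rw [Submodule.mem_bot]
    apply hright x
    intro w
    exact hx.2 w Submodule.mem_top
  have hNi : Elus.Inv y ⊤ := fun x _ => Submodule.mem_top
  have hNC : (⊤ : Submodule F D.W) ⊓ LinearMap.ker (y - 1) = ⊥ := by
    rw [eq_bot_iff]
    intro x hx
    rw [Submodule.mem_inf, LinearMap.mem_ker, LinearMap.sub_apply, Module.End.one_apply,
      sub_eq_zero] at hx
    rw [Submodule.mem_bot]
    apply Subtype.ext
    have h1 : (x : V) ∈ D.V1 := by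
      rw [D.mem_V1, ← hyapp, hx.2]
    have h2 : (x : V) ∈ D.V1 ⊓ D.W := Submodule.mem_inf.2 ⟨h1, x.2⟩
    rw [D.disjoint.eq_bot, Submodule.mem_bot] at h2
    exact h2
  obtain ⟨A', -, hA'nd, hA'inv, hA'd⟩ := grow_blocks AM hq hA hB D.r hr2 hrp D.r0 hrq hyB hyr i c
    hi hc hN hNi hNC b (by rw [finrank_top]; exact hb)
  have hUg : ∀ x ∈ A'.map D.W.subtype, D.g x ∈ A'.map D.W.subtype := by
    intro x hx
    obtain ⟨a, ha, rfl⟩ := Submodule.mem_map.1 hx
    exact Submodule.mem_map.2 ⟨y a, hA'inv a ha, hyapp a⟩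
  have hUgi : ∀ x ∈ A'.map D.W.subtype, D.gi x ∈ A'.map D.W.subtype :=
    gi_mem_of_inv D.g D.gi D.gi_g D.r D.rodd.pos D.hr _ hUg
  refine ⟨A'.map D.W.subtype, ?_, ?_, hUg, hUgi, ?_⟩
  · intro x hx
    obtain ⟨a, -, rfl⟩ := Submodule.mem_map.1 hx
    exact a.2
  · rw [(Submodule.equivSubtypeMap D.W A').symm.finrank_eq, hA'd]
  · intro v hv hvw
    obtain ⟨a, ha, rfl⟩ := Submodule.mem_map.1 hv
    have h1 : a ∈ A' ⊓ AM.orthogonal A' := by
      refine Submodule.mem_inf.2 ⟨ha, ?_⟩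
      intro n hn
      show AM n a = 0
      rw [hAMapp, D.A_apply]
      apply hvw
      rw [D.T_apply]
      have hn' : (n : V) ∈ A'.map D.W.subtype := Submodule.mem_map.2 ⟨n, hn, rfl⟩
      exact Submodule.sub_mem _ (hUg _ hn') (hUgi _ hn')
    unfold ND at hA'nd
    rw [hA'nd.eq_bot, Submodule.mem_bot] at h1
    rw [h1]
    rfl

end grow

end Cfsg.Agent.Lib.Helper5.OElus
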