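import Mathlib
import Cfsg.Agent.Lib.Helper5.OElus.Grow
import Cfsg.Agent.Lib.Helper5.OElus.Two

set_option autoImplicit false

/-!
# Isometries of odd prime order: existence of invariant nondegenerate subspaces of prescribed type
-/

namespace Cfsg.Agent.Lib.Helper5.OElus

open QuadraticMap Module Cfsg
open Cfsg.Agent.Lib.Helper5.QuadTwo Cfsg.Agent.Lib.Helper5.QuadSign
open Cfsg.Agent.Lib.Helper5.OrthPrime

universe u v

section data
variable {F : Type u} [Field F] {V : Type v} [AddCommGroup V] [Module F V]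

/-- the orthogonal data of an isometry of odd order of a quadratic form -/
noncomputable def mkOData (Q : QuadraticForm F V) (hQ : Nd Q) (g gi : V →ₗ[F] V)
    (hiso : ∀ x, Q (g x) = Q x) (gi_g : ∀ x, gi (g x) = x) (g_gi : ∀ x, g (gi x) = x) (r : ℕ)
    (hgr : g ^ r = 1) (rodd : Odd r) (r0 : (r : F) ≠ 0) (two : (2 : F) ≠ 0) : OData F V where
  B := polarBilin Q
  g := g
  gi := gi
  r := r
  symm := symm_polarBilin Q
  nondeg := fun v hv => hQ v (fun w => by
    have := hv w
    rwa [polarBilin_apply_apply] at this)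
  isom := fun x y => by
    rw [polarBilin_apply_apply, polarBilin_apply_apply]
    unfold polar
    rw [← map_add, hiso, hiso, hiso]
  gi_g := gi_g
  g_gi := g_gi
  hr := hgr
  rodd := rodd
  r0 := r0
  two := two

end data

section suff
variable {F : Type u} [Field F] [Fintype F] {V : Type u} [AddCommGroup V] [Module F V]
  [FiniteDimensional F V]

omit [Field F] in
theorem order_pos' (r : ℕ) [hr : Fact r.Prime] (hrq : ¬ r ∣ Fintype.card F) :
    0 < orderOf ((Fintype.card F : ℕ) : ZMod r) := by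
  rw [orderOf_pos_iff, isOfFinOrder_iff_pow_eq_one]
  have h0 : ((Fintype.card F : ℕ) : ZMod r) ≠ 0 := by
    rw [Ne, ZMod.natCast_eq_zero_iff]
    exact hrq
  exact ⟨r - 1, by have := hr.out.two_le; omega, ZMod.pow_card_sub_one_eq_one h0⟩

/-- **isometries of odd prime order `r ≠ p`**: existence of an invariant nondegenerate subspace of
dimension `2k` and prescribed type -/
theorem exists_typed_of_odd_order (hq : Odd (Fintype.card F)) {p f₀ : ℕ} [hp : Fact p.Prime]
    [CharP F p] (hqp : Fintype.card F = p ^ f₀) (Q : QuadraticForm F V) (hQ : Nd Q)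
    (g gi : V →ₗ[F] V) (hiso : ∀ x, Q (g x) = Q x) (gi_g : ∀ x, gi (g x) = x)
    (g_gi : ∀ x, g (gi x) = x) (r : ℕ) [hr : Fact r.Prime] (hr2 : r ≠ 2) (hrp : r ≠ p)
    (hgr : g ^ r = 1) (i c : ℕ) (hi : i = orderOf ((Fintype.card F : ℕ) : ZMod r))
    (hc : c = if Even i then i else 2 * i) (k : ℕ) (hkn : 2 * k < finrank F V)
    (hmod : (2 * k) % c < finrank F V % c) (plus : Prop)
    (hpl : (2 * k) % c = 0 → (Even i → (plus ↔ Even (2 * k / i))) ∧ (¬ Even i → plus)) :
    ∃ W : Submodule F V, finrank F W = 2 * k ∧ NdOn Q W ∧ (PlusOn Q W ↔ plus) ∧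
      ∀ x ∈ W, g x ∈ W := by
  have h2 : (2 : F) ≠ 0 := Cfsg.Agent.Lib.Helper5.two_ne_zero_of_odd_card hq
  have rodd : Odd r := hr.out.odd_of_ne_two hr2
  have r0 : (r : F) ≠ 0 := by
    intro h
    have h1 := (CharP.cast_eq_zero_iff F p r).mp h
    exact hrp ((Nat.prime_dvd_prime_iff_eq hp.out hr.out).mp h1).symm
  have hrq : ¬ r ∣ Fintype.card F := by
    rw [hqp]
    intro h
    exact hrp ((Nat.prime_dvd_prime_iff_eq hr.out hp.out).mp (hr.out.dvd_of_dvd_pow h))
  have hi0 : 0 < i := hi ▸ order_pos' r hrq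
  have hc0 : 0 < c := by
    rw [hc]
    split_ifs <;> omega
  obtain ⟨D, hD⟩ : ∃ D : OData F V, D = mkOData Q hQ g gi hiso gi_g g_gi r hgr rodd r0 h2 :=
    ⟨_, rfl⟩
  have hDB : ∀ x y, D.B x y = polar Q x y := fun x y => by rw [hD]; rfl
  have hDg : D.g = g := by rw [hD]; rfl
  have hDgi : D.gi = gi := by rw [hD]; rfl
  have hDr : D.r = r := by rw [hD]; rfl
  have hcompl := D.isCompl
  have hBnd : Nondeg (polarBilin Q) := fun v hv => hQ v (fun w => by
    have := hv w
    rwa [polarBilin_apply_apply] at this)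
  have hisoB : ∀ x y, polarBilin Q (g x) (g y) = polarBilin Q x y := by
    intro x y
    rw [polarBilin_apply_apply, polarBilin_apply_apply]
    unfold polar
    rw [← map_add, hiso, hiso, hiso]
  have horth : ∀ u ∈ D.V1, ∀ w ∈ D.W, polar Q u w = 0 := fun u hu w hw => by
    rw [← hDB]; exact D.orth u hu w hw
  have hCnd : NdOn Q D.V1 := (nondeg_res_iff Q D.V1).1
    (nondeg_of_isCompl (symm_polarBilin Q) hBnd hcompl (fun u hu w hw => by
      rw [polarBilin_apply_apply]; exact horth u hu w hw))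
  have hMnd : NdOn Q D.W := (nondeg_res_iff Q D.W).1
    (nondeg_of_isCompl (symm_polarBilin Q) hBnd hcompl.symm (fun u hu w hw => by
      rw [polarBilin_apply_apply, polar_comm]; exact horth w hw u hu))
  have hdim := Submodule.finrank_add_eq_of_isCompl hcompl
  have hMfix : ∀ v ∈ D.W, g v = v → v = 0 := by
    intro v hv hgv
    have h1 : v ∈ D.V1 ⊓ D.W := Submodule.mem_inf.2 ⟨(D.mem_V1 v).2 (by rw [hDg]; exact hgv), hv⟩
    rw [D.disjoint.eq_bot, Submodule.mem_bot] at h1
    exact h1
  have hMinf : (D.W ⊓ LinearMap.ker (g - 1) : Submodule F V) = ⊥ := by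
    rw [eq_bot_iff]
    intro x hx
    rw [Submodule.mem_inf, LinearMap.mem_ker, LinearMap.sub_apply, Module.End.one_apply,
      sub_eq_zero] at hx
    rw [Submodule.mem_bot]
    exact hMfix x hx.1 hx.2
  have hcdvd : c ∣ finrank F D.W := by
    have h1 := dvd_finrank_sub_fix (polarBilin Q) (symm_polarBilin Q) g gi
      hisoB g_gi r hr2 hrq hgr i c hi hc D.W
      (fun x hx => by rw [← hDg]; exact D.g_mem_W x hx)
      (fun x hx => by rw [← hDgi]; exact D.gi_mem_W x hx)
      (fun w hw hwu => hMnd w hw (fun u hu => by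
        have := hwu u hu
        rwa [polarBilin_apply_apply, polar_comm] at this))
    rwa [hMinf, finrank_bot, Nat.sub_zero] at h1
  obtain ⟨t', ht'⟩ := hcdvd
  have hC1 : ∀ x ∈ D.V1, g x = (1 : F) • x := fun x hx => by
    rw [one_smul, ← hDg]; exact (D.mem_V1 x).1 hx
  have : Fact D.r.Prime := hDr ▸ hr
  obtain ⟨U, hUM, hUd, hUg, hUgi, hUnd⟩ := exists_inv_nd_sub D hqp (hDr ▸ hr2) (hDr ▸ hrp)
    (hDr ▸ hrq) i c (hDr ▸ hi) hc (min t' (2 * k / c)) (by
      rw [ht']
      exact Nat.mul_le_mul_left c (min_le_left _ _))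
  rw [hDg] at hUg
  rw [hDgi] at hUgi
  have hUnd' : NdOn Q U := fun v hv hvw => hUnd v hv (fun w hw => by rw [hDB]; exact hvw w hw)
  have hdm := Nat.div_add_mod (2 * k) c
  rcases Nat.eq_zero_or_pos (2 * k - c * min t' (2 * k / c)) with h0 | hpos
  · -- the subspace `U` itself
    have hle : c * min t' (2 * k / c) ≤ 2 * k :=
      (Nat.mul_le_mul_left c (min_le_right _ _)).trans (Nat.mul_div_le _ _)
    have hUk : finrank F U = 2 * k := by omega
    have hmod0 : (2 * k) % c = 0 := by
      have : c ∣ 2 * k := ⟨min t' (2 * k / c), by omega⟩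
      exact Nat.mod_eq_zero_of_dvd this
    refine ⟨U, hUk, hUnd', ?_, hUg⟩
    have hsgn := sign_sub_fpf p Q g gi hiso gi_g g_gi r hr2 hrp hgr i hi U hUg hUgi hUnd'
      (fun v hv => hMfix v (hUM hv)) k hUk
    by_cases hev : Even i
    · obtain ⟨s, hs, hsgn⟩ := hsgn.1 hev
      rw [((hpl hmod0).1 hev)]
      have hsi : 2 * k / i = s := by
        rw [hs]
        exact Nat.mul_div_cancel_left s hi0
      rw [hsi]
      constructor
      · intro h
        by_contra hodd
        rw [Nat.not_even_iff_odd] at hodd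
        rw [hodd.neg_one_pow] at hsgn
        exact (not_plusOn_iff_hasSign Q U k hUk hUnd').2 hsgn h
      · intro h
        rw [h.neg_one_pow] at hsgn
        exact (plusOn_iff_hasSign Q U k hUk hUnd').2 hsgn
    · have h1 := (plusOn_iff_hasSign Q U k hUk hUnd').2 (hsgn.2 hev)
      exact ⟨fun _ => (hpl hmod0).2 hev, fun _ => h1⟩
  · -- a free part inside the fixed space
    refine exists_typed_inv hq Q g D.V1 U 1 hC1 hUg (fun c' hc' u hu => horth c' hc' u (hUM hu))
      hCnd hUnd' (2 * k - c * min t' (2 * k / c)) k hpos ?_ ?_ plus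
    · rcases le_total t' (2 * k / c) with hle | hle
      · rw [min_eq_left hle]
        have : c * t' ≤ 2 * k := (Nat.mul_le_mul_left c hle).trans (Nat.mul_div_le _ _)
        omega
      · rw [min_eq_right hle]
        have h3 : 2 * k - c * (2 * k / c) = (2 * k) % c := by omega
        rw [h3]
        have h4 : finrank F V % c ≤ finrank F D.V1 := by
          rw [← hdim, ht', Nat.add_mul_mod_self_left]
          exact Nat.mod_le _ _
        omega
    · rw [hUd]
      have hle : c * min t' (2 * k / c) ≤ 2 * k :=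
        (Nat.mul_le_mul_left c (min_le_right _ _)).trans (Nat.mul_div_le _ _)
      omega

end suff

end Cfsg.Agent.Lib.Helper5.OElus
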