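import Mathlib
import Cfsg.Agent.Lib.Helper5.OElus.Count
import Cfsg.Agent.Lib.Helper5.OElus.Mod

set_option autoImplicit false

/-!
# Transitivity of the isometry group on typed nondegenerate subspaces, and a consequence of
Cauchy's theorem
-/

namespace Cfsg.Agent.Lib.Helper5.OElus

open QuadraticMap Module Cfsg
open Cfsg.Agent.Lib.Helper5.QuadTwo Cfsg.Agent.Lib.Helper5.QuadSign
open Cfsg.Agent.Lib.Helper5.OrthPrime Cfsg.Agent.Lib.Helper2 Cfsg.Agent.Lib.Helper2.SpImp

universe u

section trans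
variable {F : Type u} [Field F] [Fintype F] {V : Type u} [AddCommGroup V] [Module F V]
  [FiniteDimensional F V]

/-- the number of typed subspaces divides the order of the isometry group -/
theorem card_typed_dvd (hq : Odd (Fintype.card F)) (Q : QuadraticForm F V) (hQ : Nd Q) (k : ℕ)
    (plus : Prop) (W₀ : Submodule F V) (hW₀ : Typed Q k plus W₀) :
    Nat.card {W : Submodule F V // Typed Q k plus W} ∣ Nat.card (isoGroup (polarBilin Q)) := by
  classical
  have h2 : (2 : F) ≠ 0 := Cfsg.Agent.Lib.Helper5.two_ne_zero_of_odd_card hq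
  let _ := SpTi.subAction (F := F) (V := V)
  have hQ' : (polarBilin Q).Nondegenerate := by
    constructor
    · intro x hx
      apply hQ x
      intro w
      have := hx w
      rwa [polarBilin_apply_apply, polar_comm] at this
    · intro y hy
      apply hQ y
      intro w
      have := hy w
      rwa [polarBilin_apply_apply] at this
  have hisoQ : ∀ g : V ≃ₗ[F] V, g ∈ isoGroup (polarBilin Q) → ∀ x, Q (g x) = Q x := by
    intro g hg x
    have h1 := hg x x
    rw [polarBilin_apply_apply, polarBilin_apply_apply, polar_self, polar_self, nsmul_eq_mul,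
      nsmul_eq_mul, Nat.cast_ofNat] at h1
    exact mul_left_cancel₀ h2 h1
  have hset : MulAction.orbit (isoGroup (polarBilin Q)) W₀ =
      {W : Submodule F V | Typed Q k plus W} := by
    ext W
    constructor
    · rintro ⟨g, rfl⟩
      exact typed_map Q (g : V ≃ₗ[F] V) (hisoQ g g.2) k plus W₀ hW₀
    · intro hW
      obtain ⟨σ, hs₀, hs⟩ : ∃ σ : ℤ, HasSign (res Q W₀) k σ ∧ HasSign (res Q W) k σ := by
        by_cases hp : plus
        · exact ⟨1, (plusOn_iff_hasSign Q W₀ k hW₀.1 hW₀.2.1).1 (hW₀.2.2.2 hp),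
            (plusOn_iff_hasSign Q W k hW.1 hW.2.1).1 (hW.2.2.2 hp)⟩
        · exact ⟨-1, (not_plusOn_iff_hasSign Q W₀ k hW₀.1 hW₀.2.1).1 (fun h => hp (hW₀.2.2.1 h)),
            (not_plusOn_iff_hasSign Q W k hW.1 hW.2.1).1 (fun h => hp (hW.2.2.1 h))⟩
      obtain ⟨φ, hφ⟩ := (geo_all (F := F)).iso_of_hasSign (res Q W₀) (res Q W)
        ((nd_res_iff Q W₀).2 hW₀.2.1) ((nd_res_iff Q W).2 hW.2.1) k hW₀.1 hW.1 σ hs₀ hs
      obtain ⟨g, hg, hgφ⟩ := Cfsg.Agent.Lib.Helper5.QuadIsom.witt Q hQ' W₀ W φ hφ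
      have hgB : g ∈ isoGroup (polarBilin Q) := by
        intro u v
        rw [polarBilin_apply_apply, polarBilin_apply_apply]
        have := polar_of_isom' Q (g : V →ₗ[F] V) hg u v
        rwa [LinearEquiv.coe_coe] at this
      refine ⟨⟨g, hgB⟩, ?_⟩
      show W₀.map (g : V →ₗ[F] V) = W
      apply Submodule.eq_of_le_of_finrank_eq
      · rintro _ ⟨x, hx, rfl⟩
        rw [LinearEquiv.coe_coe, hgφ ⟨x, hx⟩]
        exact (φ ⟨x, hx⟩).2
      · rw [LinearEquiv.finrank_map_eq g W₀, hW₀.1, hW.1]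
  have h1 : Nat.card (MulAction.orbit (isoGroup (polarBilin Q)) W₀) =
      Nat.card {W : Submodule F V // Typed Q k plus W} :=
    Nat.card_congr (Equiv.setCongr hset)
  rw [← h1, Nat.card_congr (MulAction.orbitEquivQuotientStabilizer (isoGroup (polarBilin Q)) W₀),
    Subgroup.card_eq_card_quotient_mul_card_subgroup
      (MulAction.stabilizer (isoGroup (polarBilin Q)) W₀)]
  exact dvd_mul_right _ _

/-- **if `r` divides the number of typed subspaces then the dimension is at least `c`** -/
theorem le_finrank_of_dvd_card (hq : Odd (Fintype.card F)) (Q : QuadraticForm F V) (hQ : Nd Q)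
    (k : ℕ) (plus : Prop) (W₀ : Submodule F V) (hW₀ : Typed Q k plus W₀) (r : ℕ)
    [hr : Fact r.Prime] (hr2 : r ≠ 2) (hrq : ¬ r ∣ Fintype.card F)
    (hdvd : r ∣ Nat.card {W : Submodule F V // Typed Q k plus W}) (i c : ℕ)
    (hi : i = orderOf ((Fintype.card F : ℕ) : ZMod r)) (hc : c = if Even i then i else 2 * i) :
    c ≤ finrank F V := by
  obtain ⟨y, hyB, hyr, hy1⟩ := exists_order_r (polarBilin Q) r
    (hdvd.trans (card_typed_dvd hq Q hQ k plus W₀ hW₀))
  have hr0 : 0 < r := hr.out.pos
  have hyy : ∀ x, y ((y ^ (r - 1)) x) = x := by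
    intro x
    rw [← Module.End.mul_apply, ← pow_succ', Nat.sub_add_cancel hr0, hyr, Module.End.one_apply]
  have h1 := dvd_finrank_sub_fix (polarBilin Q) (symm_polarBilin Q) y (y ^ (r - 1)) hyB hyy r hr2
    hrq hyr i c hi hc ⊤ (fun _ _ => Submodule.mem_top) (fun _ _ => Submodule.mem_top)
    (fun w _ hw => hQ w (fun u => by
      have := hw u Submodule.mem_top
      rwa [polarBilin_apply_apply, polar_comm] at this))
  rw [top_inf_eq, finrank_top] at h1
  have h2 : finrank F (LinearMap.ker (y - 1)) < finrank F V := by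
    by_contra hcon
    push Not at hcon
    have h3 : LinearMap.ker (y - 1) = ⊤ :=
      Submodule.eq_top_of_finrank_eq (le_antisymm (Submodule.finrank_le _) hcon)
    apply hy1
    apply LinearMap.ext
    intro x
    have h4 : x ∈ LinearMap.ker (y - 1) := by rw [h3]; exact Submodule.mem_top
    rw [LinearMap.mem_ker, LinearMap.sub_apply, Module.End.one_apply, sub_eq_zero] at h4
    rw [h4, Module.End.one_apply]
  have h5 := Nat.le_of_dvd (by omega) h1
  omega

end trans

end Cfsg.Agent.Lib.Helper5.OElus
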