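import Mathlib
import Cfsg.Agent.Lib.Helper5.OElus.Suff
import Cfsg.Agent.Lib.Helper5.OElus.Trans
import Cfsg.Agent.Lib.Helper5.OElus.Sub

set_option autoImplicit false

/-!
# Necessary conditions from an element with a small fixed space
-/

namespace Cfsg.Agent.Lib.Helper5.OElus

open QuadraticMap Module Cfsg
open Cfsg.Agent.Lib.Helper5.QuadTwo Cfsg.Agent.Lib.Helper5.QuadSign
open Cfsg.Agent.Lib.Helper5.OrthPrime Cfsg.Agent.Lib.Helper2 Cfsg.Agent.Lib.Helper2.SpImp

universe u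

section nec
variable {F : Type u} [Field F] [Fintype F] {V : Type u} [AddCommGroup V] [Module F V]
  [FiniteDimensional F V]

/-- the type of an invariant nondegenerate subspace without fixed vectors -/
theorem plusOn_of_fpf {p : ℕ} [hp : Fact p.Prime] [CharP F p] (Q : QuadraticForm F V)
    (g gi : V →ₗ[F] V) (hiso : ∀ x, Q (g x) = Q x) (gi_g : ∀ x, gi (g x) = x)
    (g_gi : ∀ x, g (gi x) = x) (r : ℕ) [hr : Fact r.Prime] (hr2 : r ≠ 2) (hrp : r ≠ p)
    (hgr : g ^ r = 1) (i : ℕ) (hi : i = orderOf ((Fintype.card F : ℕ) : ZMod r)) (hi0 : 0 < i)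
    (U : Submodule F V) (hUg : ∀ x ∈ U, g x ∈ U) (hUgi : ∀ x ∈ U, gi x ∈ U) (hUnd : NdOn Q U)
    (hfix : ∀ v ∈ U, g v = v → v = 0) (k : ℕ) (hUk : finrank F U = 2 * k) :
    (Even i → (PlusOn Q U ↔ Even (2 * k / i))) ∧ (¬ Even i → PlusOn Q U) := by
  have hsgn := sign_sub_fpf p Q g gi hiso gi_g g_gi r hr2 hrp hgr i hi U hUg hUgi hUnd hfix k hUk
  constructor
  · intro hev
    obtain ⟨s, hs, hsgn⟩ := hsgn.1 hev
    have hsi : 2 * k / i = s := by
      rw [hs]
      exact Nat.mul_div_cancel_left s hi0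
    rw [hsi]
    constructor
    · intro h
      by_contra hodd
      rw [Nat.not_even_iff_odd] at hodd
      rw [hodd.neg_one_pow] at hsgn
      exact (not_plusOn_iff_hasSign Q U k hUk hUnd).2 hsgn h
    · intro h
      rw [h.neg_one_pow] at hsgn
      exact (plusOn_iff_hasSign Q U k hUk hUnd).2 hsgn
  · intro hev
    exact (plusOn_iff_hasSign Q U k hUk hUnd).2 (hsgn.2 hev)

/-- **an invariant nondegenerate subspace of an element whose fixed space has the odd dimension
`n % c`** -/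
theorem mod_lt_of_inv {p : ℕ} [hp : Fact p.Prime] [CharP F p] (Q : QuadraticForm F V)
    (g gi : V →ₗ[F] V) (hiso : ∀ x, Q (g x) = Q x) (gi_g : ∀ x, gi (g x) = x)
    (g_gi : ∀ x, g (gi x) = x) (r : ℕ) [hr : Fact r.Prime] (hr2 : r ≠ 2) (hrp : r ≠ p)
    (hrq : ¬ r ∣ Fintype.card F)
    (hgr : g ^ r = 1) (i c : ℕ) (hi : i = orderOf ((Fintype.card F : ℕ) : ZMod r))
    (hc : c = if Even i then i else 2 * i) (hn : Odd (finrank F V))
    (hfd : finrank F (LinearMap.ker (g - 1)) = finrank F V % c)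
    (W : Submodule F V) (hW : ∀ x ∈ W, g x ∈ W) (k : ℕ) (hk : finrank F W = 2 * k)
    (hnd : NdOn Q W) :
    (2 * k) % c < finrank F V % c ∧ ((2 * k) % c = 0 →
      (Even i → (PlusOn Q W ↔ Even (2 * k / i))) ∧ (¬ Even i → PlusOn Q W)) := by
  have hi0 : 0 < i := hi ▸ order_pos' r hrq
  obtain ⟨c', hc'⟩ : ∃ c', c = 2 * c' := by
    rw [hc]
    split_ifs with h
    · obtain ⟨a, ha⟩ := h
      exact ⟨a, by omega⟩
    · exact ⟨i, rfl⟩
  have hc0 : 0 < c := by
    rw [hc]
    split_ifs <;> omega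
  have hWi : ∀ x ∈ W, gi x ∈ W := gi_mem_of_inv g gi gi_g r hr.out.pos hgr W hW
  have hisoB : ∀ x y, polarBilin Q (g x) (g y) = polarBilin Q x y := by
    intro x y
    rw [polarBilin_apply_apply, polarBilin_apply_apply]
    exact polar_of_isom' Q g hiso x y
  have h1 := dvd_finrank_sub_fix (polarBilin Q) (symm_polarBilin Q) g gi hisoB g_gi r hr2 hrq hgr
    i c hi hc W hW hWi (fun w hw hwu => hnd w hw (fun u hu => by
      have := hwu u hu
      rwa [polarBilin_apply_apply, polar_comm] at this))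
  obtain ⟨m₀, hm₀⟩ : ∃ m₀, m₀ = finrank F (W ⊓ LinearMap.ker (g - 1) : Submodule F V) := ⟨_, rfl⟩
  rw [← hm₀, hk] at h1
  have hle1 : m₀ ≤ 2 * k := by
    rw [hm₀, ← hk]
    exact Submodule.finrank_mono inf_le_left
  have hle2 : m₀ ≤ finrank F V % c := by
    rw [hm₀, ← hfd]
    exact Submodule.finrank_mono inf_le_right
  have hlt : finrank F V % c < c := Nat.mod_lt _ hc0
  obtain ⟨a, ha⟩ := h1
  have hmod : (2 * k) % c = m₀ := by
    have h2 : 2 * k = m₀ + c * a := by omega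
    rw [h2, Nat.add_mul_mod_self_left]
    exact Nat.mod_eq_of_lt (by omega)
  have hodd : Odd (finrank F V % c) := by
    have h3 := Nat.div_add_mod (finrank F V) c
    rw [hc'] at h3 ⊢
    obtain ⟨z, hz⟩ : ∃ z, z = c' * (finrank F V / (2 * c')) := ⟨_, rfl⟩
    rw [mul_assoc, ← hz] at h3
    rw [Nat.odd_iff] at hn ⊢
    omega
  have hev : Even m₀ := by
    rw [hc'] at ha
    obtain ⟨z, hz⟩ : ∃ z, z = c' * a := ⟨_, rfl⟩
    rw [mul_assoc, ← hz] at ha
    rw [Nat.even_iff]
    omega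
  refine ⟨?_, ?_⟩
  · rw [hmod]
    rcases Nat.lt_or_ge m₀ (finrank F V % c) with h | h
    · exact h
    · exfalso
      have : m₀ = finrank F V % c := le_antisymm hle2 h
      rw [this] at hev
      exact (Nat.not_even_iff_odd.2 hodd) hev
  · intro h0
    rw [hmod] at h0
    have hbot : (W ⊓ LinearMap.ker (g - 1) : Submodule F V) = ⊥ := by
      apply Submodule.finrank_eq_zero.1
      rw [← hm₀, h0]
    have hfix : ∀ v ∈ W, g v = v → v = 0 := by
      intro v hv hgv
      have h4 : v ∈ (W ⊓ LinearMap.ker (g - 1) : Submodule F V) := by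
        refine Submodule.mem_inf.2 ⟨hv, ?_⟩
        rw [LinearMap.mem_ker, LinearMap.sub_apply, Module.End.one_apply, hgv, sub_self]
      rw [hbot, Submodule.mem_bot] at h4
      exact h4
    exact plusOn_of_fpf Q g gi hiso gi_g g_gi r hr2 hrp hgr i hi hi0 W hW hWi hnd hfix k hk

end nec

end Cfsg.Agent.Lib.Helper5.OElus
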