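import Mathlib
import Cfsg.Agent.Lib.Helper5.OElus.Nec

set_option autoImplicit false

/-!
# The dimension is at least `c` when `r` divides the number of typed subspaces
-/

namespace Cfsg.Agent.Lib.Helper5.OElus

open QuadraticMap Module Cfsg
open Cfsg.Agent.Lib.Helper5.QuadTwo Cfsg.Agent.Lib.Helper5.QuadSign
open Cfsg.Agent.Lib.Helper5.OrthPrime Cfsg.Agent.Lib.Helper2 Cfsg.Agent.Lib.Helper2.SpImp

universe u

section corner
variable {F : Type u} [Field F] [Fintype F] {V : Type u} [AddCommGroup V] [Module F V]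
  [FiniteDimensional F V]

/-- **the corner case**: if `r` divides the number of typed subspaces of dimension `2k`, and some
element of order `r` has a fixed space of dimension `n % c > 2k`, then `c ≤ 2k` -/
theorem le_of_dvd_card_typed (hq : Odd (Fintype.card F)) {p : ℕ} [hp : Fact p.Prime] [CharP F p]
    (Q : QuadraticForm F V) (hQ : Nd Q)
    (g gi : V →ₗ[F] V) (hiso : ∀ x, Q (g x) = Q x) (gi_g : ∀ x, gi (g x) = x)
    (g_gi : ∀ x, g (gi x) = x) (r : ℕ) [hr : Fact r.Prime] (hr2 : r ≠ 2) (hrp : r ≠ p)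
    (hrq : ¬ r ∣ Fintype.card F)
    (hgr : g ^ r = 1) (i c : ℕ) (hi : i = orderOf ((Fintype.card F : ℕ) : ZMod r))
    (hc : c = if Even i then i else 2 * i)
    (hfd : finrank F (LinearMap.ker (g - 1)) = finrank F V % c) (k : ℕ) (hk1 : 1 ≤ k)
    (plus : Prop) (hlt : 2 * k < finrank F V % c)
    (hdvd : r ∣ Nat.card {W : Submodule F V // Typed Q k plus W}) : c ≤ 2 * k := by
  by_contra hcon
  push Not at hcon
  have h2 : (2 : F) ≠ 0 := Cfsg.Agent.Lib.Helper5.two_ne_zero_of_odd_card hq
  have hr0 : 0 < r := hr.out.pos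
  have rodd : Odd r := hr.out.odd_of_ne_two hr2
  have r0 : (r : F) ≠ 0 := by
    intro h
    have h1 := (CharP.cast_eq_zero_iff F p r).mp h
    exact hrp ((Nat.prime_dvd_prime_iff_eq hp.out hr.out).mp h1).symm
  have hc0 : 0 < c := by omega
  obtain ⟨C, hC⟩ : ∃ C : Submodule F V, C = LinearMap.ker (g - 1) := ⟨_, rfl⟩
  have memC : ∀ x, x ∈ C ↔ g x = x := by
    intro x
    rw [hC, LinearMap.mem_ker, LinearMap.sub_apply, Module.End.one_apply, sub_eq_zero]
  -- nondegeneracy of the fixed space
  obtain ⟨D, hD⟩ : ∃ D : OData F V, D = mkOData Q hQ g gi hiso gi_g g_gi r hgr rodd r0 h2 :=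
    ⟨_, rfl⟩
  have hDV1 : D.V1 = C := by rw [hD, hC]; rfl
  have hBnd : Nondeg (polarBilin Q) := fun v hv => hQ v (fun w => by
    have := hv w
    rwa [polarBilin_apply_apply] at this)
  have hCnd : NdOn Q C := by
    rw [← hDV1]
    exact (nondeg_res_iff Q D.V1).1
      (nondeg_of_isCompl (symm_polarBilin Q) hBnd D.isCompl (fun u hu w hw => by
        have := D.orth u hu w hw
        rw [hD] at this
        exact this))
  have hisoB : ∀ x y, polarBilin Q (g x) (g y) = polarBilin Q x y := by
    intro x y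
    rw [polarBilin_apply_apply, polarBilin_apply_apply]
    exact polar_of_isom' Q g hiso x y
  -- the fixed point congruence
  have hP : ∀ W, Typed Q k plus W → Typed Q k plus (W.map g) := by
    intro W hW
    obtain ⟨ge, hge⟩ := exists_equiv_of_pow hr0 hgr
    rw [← hge]
    exact typed_map Q ge (fun x => by
      have := hiso x
      rw [← hge] at this
      exact this) k plus W hW
  have hcong := card_pred_fix_modEq r hgr (Typed Q k plus) hP
  have hfixset : ∀ W, Typed Q k plus W → (Elus.Inv g W ↔ W ≤ C) := by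
    intro W hW
    constructor
    · intro hWg
      have hWi : ∀ x ∈ W, gi x ∈ W := gi_mem_of_inv g gi gi_g r hr0 hgr W hWg
      have h1 := dvd_finrank_sub_fix (polarBilin Q) (symm_polarBilin Q) g gi hisoB g_gi r hr2 hrq
        hgr i c hi hc W hWg hWi (fun w hw hwu => hW.2.1 w hw (fun u hu => by
          have := hwu u hu
          rwa [polarBilin_apply_apply, polar_comm] at this))
      rw [hW.1, ← hC] at h1
      have h3 : 2 * k - finrank F (W ⊓ C : Submodule F V) = 0 := by
        rcases Nat.eq_zero_or_pos (2 * k - finrank F (W ⊓ C : Submodule F V)) with h | h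
        · exact h
        · have := Nat.le_of_dvd h h1
          omega
      have h4 : (W ⊓ C : Submodule F V) = W := by
        apply Submodule.eq_of_le_of_finrank_le inf_le_left
        rw [hW.1]
        omega
      rw [← h4]
      exact inf_le_right
    · intro hWC x hx
      rw [(memC x).1 (hWC hx)]
      exact hx
  have hcard1 : Nat.card {W : Submodule F V // Typed Q k plus W ∧ Elus.Inv g W} =
      Nat.card {W : Submodule F V // Typed Q k plus W ∧ W ≤ C} :=
    Nat.card_congr (Equiv.subtypeEquivRight (fun W =>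
      ⟨fun h => ⟨h.1, (hfixset W h.1).1 h.2⟩, fun h => ⟨h.1, (hfixset W h.1).2 h.2⟩⟩))
  rw [hcard1, card_typed_sub_eq] at hcong
  have hdvd' : r ∣ Nat.card {W' : Submodule F C // Typed (res Q C) k plus W'} :=
    (hcong.dvd_iff dvd_rfl).1 hdvd
  -- a base point
  have hNdC : Nd (res Q C) := (nd_res_iff Q C).2 hCnd
  have hCdim : finrank F C = finrank F V % c := by rw [hC]; exact hfd
  obtain ⟨W₀, -, hfr, hnd, hpl⟩ := exists_typed_sup hq (res Q C) ⊤ ⊥
    (fun c' _ u hu => by rw [(Submodule.mem_bot F).1 hu, polar_zero_right])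
    (fun v _ hv => hNdC v (fun w => hv w Submodule.mem_top)) (ndOn_bot _) (2 * k) k (by omega)
    (by rw [finrank_top, hCdim]; exact hlt) (by rw [finrank_bot, add_zero]) plus
  have := le_finrank_of_dvd_card hq (res Q C) hNdC k plus _ ⟨hfr, hnd, hpl⟩ r hr2 hrq hdvd' i c
    hi hc
  have hlt2 : finrank F V % c < c := Nat.mod_lt _ hc0
  omega

end corner

end Cfsg.Agent.Lib.Helper5.OElus
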