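import Mathlib
import Cfsg.Agent.Lib.Helper5.OElus.Mod
import Cfsg.Agent.Lib.Helper5.NsPt.OmegaReal
import Cfsg.Agent.Lib.Helper5.OrthPrime.OMain
import Cfsg.Agent.Lib.Helper5.SpinorHyp2

set_option autoImplicit false

/-!
# An element of odd prime order of `Ω_{2d+1}(q)` with the smallest possible fixed space
-/

namespace Cfsg.Agent.Lib.Helper5.OElus

open QuadraticMap Module Polynomial Cfsg
open Cfsg.Agent.Lib.Helper5.QuadTwo Cfsg.Agent.Lib.Helper5.QuadSign
open Cfsg.Agent.Lib.Helper5.SemiCount Cfsg.Agent.Lib.Helper5.OrthPrime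
open Cfsg.Agent.Lib.Helper4.PrimeOrd Cfsg.Agent.Lib.Helper5.NsPt

universe u

section max
variable {F : Type u} [Field F] [Fintype F] {r i t : ℕ} {f : Fin t → F[X]}

theorem rootMultiplicity_Pc (H : FamHyp r i t f) (n : ℕ) (cv : Fin t → ℕ) :
    (Pc n i t f cv).rootMultiplicity 1 = n - i * ∑ j, cv j := by
  have hne : Pc n i t f cv ≠ 0 := (Pc_monic H cv).ne_zero
  unfold Pc at hne ⊢
  rw [rootMultiplicity_mul hne]
  have h1 := rootMultiplicity_X_sub_C_pow (1 : F) (n - i * ∑ j, cv j)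
  rw [h1, rootMultiplicity_eq_zero, add_zero]
  rw [IsRoot.def, eval_prod]
  apply Finset.prod_ne_zero_iff.mpr
  intro j _
  rw [eval_pow]
  exact pow_ne_zero _ (eval_one_fam_ne H j)

variable (p : ℕ) [Fact p.Prime] [CharP F p]

include p in
/-- **an element of `Ω_{2d+1}(q)` of odd prime order `r ≠ p` whose fixed space has dimension
`(2d+1) % c`** -/
theorem exists_max_elt {q : ℕ} (hF : Fintype.card F = q) (hodd : Fintype.card F % 2 = 1)
    (d : ℕ) (r : ℕ) [hr : Fact r.Prime] (hr2 : r ≠ 2) (hrp : r ≠ p) (i c : ℕ)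
    (hi : i = orderOf (q : ZMod r)) (hc : c = if Even i then i else 2 * i)
    (hcn : c ≤ 2 * d + 1) :
    ∃ g : ↥(Cfsg.isometryGroup F (Cfsg.quadFormOdd d F)), g ^ r = 1 ∧ g ≠ 1 ∧
      g ∈ Cfsg.Omega F (Cfsg.quadFormOdd d F) ∧
      finrank F (LinearMap.ker (Matrix.toLin' ((g : GL (Unit ⊕ (Fin d ⊕ Fin d)) F) :
        Matrix (Unit ⊕ (Fin d ⊕ Fin d)) (Unit ⊕ (Fin d ⊕ Fin d)) F) - 1)) = (2 * d + 1) % c := by
  classical
  have rodd : Odd r := hr.out.odd_of_ne_two hr2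
  have two : (2 : F) ≠ 0 := Cfsg.Agent.Lib.Helper5.OrthPrime.two_ne_zero_of_odd_card hodd
  obtain ⟨hqr, t, ht⟩ := exists_order_setup p hF r hr.out hrp
  rw [← hi] at ht
  obtain ⟨r0, hi', ht1, f, H, π, hπi, hπ, hπe, hπo⟩ :=
    family_setup p hF r i t hr.out hr2 hrp hi ht
  have hi0 : 0 < i := H.ipos
  have hc0 : 0 < c := by
    rw [hc]
    split_ifs <;> omega
  obtain ⟨j₀, -⟩ : ∃ j₀ : Fin t, j₀ = ⟨0, ht1⟩ := ⟨_, rfl⟩
  obtain ⟨s, hs⟩ : ∃ s, s = (2 * d + 1) / c := ⟨_, rfl⟩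
  obtain ⟨cv, hcv⟩ : ∃ cv : Fin t → ℕ, cv = fun j => (if j = j₀ then s else 0) +
      (if Even i then 0 else if j = π j₀ then s else 0) := ⟨_, rfl⟩
  have hsum : i * ∑ j, cv j = c * s := by
    rw [hcv, Finset.sum_add_distrib, Finset.sum_ite_eq' Finset.univ j₀, if_pos (Finset.mem_univ _)]
    by_cases hev : Even i
    · simp only [if_pos hev, Finset.sum_const_zero, add_zero]
      rw [hc, if_pos hev]
    · simp only [if_neg hev]
      rw [Finset.sum_ite_eq' Finset.univ (π j₀), if_pos (Finset.mem_univ _), hc, if_neg hev]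
      ring
  have hcπ : ∀ j, cv (π j) = cv j := by
    intro j
    by_cases hev : Even i
    · rw [hπe hev]
      rfl
    · rw [hcv]
      simp only [if_neg hev]
      have h1 : (π j = j₀) ↔ (j = π j₀) := by
        constructor
        · intro h
          rw [← h, hπi j]
        · intro h
          rw [h, hπi j₀]
      have h2 : (π j = π j₀) ↔ (j = j₀) := hπi.injective.eq_iff
      simp only [h1, h2]
      rw [add_comm]
  have hcle : i * ∑ j, cv j ≤ 2 * d + 1 := by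
    rw [hsum, hs]
    exact Nat.mul_div_le _ _
  have hpar : Even (i * ∑ j, cv j) := by
    rw [hsum]
    apply Even.mul_right
    rw [hc]
    split_ifs with h
    · exact h
    · exact even_two_mul i
  obtain ⟨g, hg, hcp⟩ := exists_orth_Pc p hodd d rodd H π hπi hπ
    (Fintype.equivFinOfCardEq (card_index d)) cv hcle hcπ hpar
  rw [QSpace.toGL_charpoly] at hcp
  obtain ⟨D, hD⟩ : ∃ D : OData F (Unit ⊕ (Fin d ⊕ Fin d) → F),
      D = (qOdd d two).oData g r hg rodd r0 two := ⟨_, rfl⟩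
  have hDg : D.g = Matrix.toLin' ((g : GL (Unit ⊕ (Fin d ⊕ Fin d)) F) :
      Matrix (Unit ⊕ (Fin d ⊕ Fin d)) (Unit ⊕ (Fin d ⊕ Fin d)) F) := by rw [hD]; rfl
  have hfix : finrank F (LinearMap.ker (Matrix.toLin' ((g : GL (Unit ⊕ (Fin d ⊕ Fin d)) F) :
      Matrix (Unit ⊕ (Fin d ⊕ Fin d)) (Unit ⊕ (Fin d ⊕ Fin d)) F) - 1)) = (2 * d + 1) % c := by
    have h1 := D.finrank_V1_eq
    rw [hDg, Matrix.charpoly_toLin', hcp, rootMultiplicity_Pc H, hsum, hs] at h1
    have h2 : D.V1 = LinearMap.ker (Matrix.toLin' ((g : GL (Unit ⊕ (Fin d ⊕ Fin d)) F) :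
      Matrix (Unit ⊕ (Fin d ⊕ Fin d)) (Unit ⊕ (Fin d ⊕ Fin d)) F) - 1) := by rw [← hDg]; rfl
    rw [← h2, h1]
    have := Nat.div_add_mod (2 * d + 1) c
    omega
  refine ⟨g, hg, ?_, ?_, hfix⟩
  · rintro rfl
    have h1 : Matrix.toLin' (((1 : ↥(Cfsg.isometryGroup F (Cfsg.quadFormOdd d F))) :
        GL (Unit ⊕ (Fin d ⊕ Fin d)) F) :
        Matrix (Unit ⊕ (Fin d ⊕ Fin d)) (Unit ⊕ (Fin d ⊕ Fin d)) F) - 1 = 0 := by
      rw [Subgroup.coe_one, Units.val_one, Matrix.toLin'_one]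
      exact sub_self _
    rw [h1, LinearMap.ker_zero, finrank_top, Module.finrank_fintype_fun_eq_card, card_index]
      at hfix
    have := Nat.mod_lt (2 * d + 1) hc0
    omega
  · have hNd : Nd (Cfsg.Agent.Lib.Helper5.SpinorHyp2.oddForm d F) := by
      intro v hv
      have hnd := Cfsg.Agent.Lib.Helper5.SpinorHyp2.oddForm_nondegenerate two d
      exact hnd.2 v (fun w => by
        have := hv w
        rwa [← polarBilin_apply_apply] at this)
    have h1 : ∀ g : ↥(Cfsg.isometryGroup F (Cfsg.quadFormOdd d F)), g ^ r = 1 →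
        g ∈ Cfsg.Omega F (Cfsg.quadFormOdd d F) := by
      rw [← Cfsg.Agent.Lib.Helper5.SpinorHyp2.coe_oddForm]
      intro g hg
      exact mem_Omega_of_odd_order _ hNd g r rodd r0 hg
    exact h1 g hg

end max

end Cfsg.Agent.Lib.Helper5.OElus
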