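import Mathlib
import Cfsg.Agent.Lib.Helper5.OUnip.MainOdd
import Cfsg.Agent.Lib.Helper5.OUnip.SubRk

set_option autoImplicit false

/-!
# A unipotent element of `Ω_{2d+1}(q)` of order `p` fixing no elliptic subspace of even dimension
-/

namespace Cfsg.Agent.Lib.Helper5.OElus

open Module Matrix Cfsg
open Cfsg.Agent.Lib.Helper5.SpUnip Cfsg.Agent.Lib.Helper5.SpinorHyp2
open Cfsg.Agent.Lib.Helper5.OUnip

universe u

section unip
variable {F : Type u} [Field F]

theorem odd_sum_of_sub (e a : ℕ) (he : Odd e) (ν : Multiset ℕ)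
    (hν : ν ≤ e ::ₘ Multiset.replicate a 2) (x : ℕ) (hx : x ∈ ν) (hx2 : x ≠ 2) : Odd ν.sum := by
  have hxμ := Multiset.mem_of_le hν hx
  rw [Multiset.mem_cons] at hxμ
  have hxe : x = e := by
    rcases hxμ with h | h
    · exact h
    · exact absurd (Multiset.eq_of_mem_replicate h) hx2
  rw [hxe] at hx
  obtain ⟨ν', rfl⟩ := Multiset.exists_cons_of_mem hx
  rw [Multiset.cons_le_cons_iff] at hν
  obtain ⟨b, -, rfl⟩ := Multiset.le_replicate_iff.1 hν
  rw [Multiset.sum_cons, Multiset.sum_replicate, smul_eq_mul]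
  rw [Nat.odd_iff] at he ⊢
  omega

/-- **a bad unipotent element** -/
theorem exists_bad_unipotent {p : ℕ} [Fact p.Prime] [CharP F p] (hp2 : p ≠ 2) (d m : ℕ)
    (hd : 2 ≤ d) (hme : Even m) :
    ∃ x : GL (Unit ⊕ (Fin d ⊕ Fin d)) F, x ∈ Cfsg.Geo.omegaGL (Cfsg.quadFormOdd d F) ∧
      orderOf x = p ∧ ∀ W : Submodule F (Unit ⊕ (Fin d ⊕ Fin d) → F), finrank F W = m →
        Cfsg.Geo.IsNondegenerateOn (QuadraticMap.polar (Cfsg.quadFormOdd d F)) W →
        ¬ Cfsg.Geo.IsPlusTypeOn (Cfsg.quadFormOdd d F) W →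
        ¬ W.map (Matrix.toLin' (x : Matrix (Unit ⊕ (Fin d ⊕ Fin d))
          (Unit ⊕ (Fin d ⊕ Fin d)) F)) ≤ W := by
  have hp : p.Prime := Fact.out
  have hp3 : 3 ≤ p := by
    have := hp.two_le
    omega
  have hF : ringChar F ≠ 2 := by rw [ringChar.eq F p]; exact hp2
  have h2 : (2 : F) ≠ 0 := Ring.two_ne_zero hF
  obtain ⟨e, a, he, hea, ha, hae, he3⟩ : ∃ e a : ℕ, Odd e ∧ e + 2 * a = 2 * d + 1 ∧ 1 ≤ a ∧
      Even a ∧ e ≤ 3 ∧ 0 < e := by
    rcases Nat.even_or_odd d with h | h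
    · exact ⟨1, d, odd_one, by omega, by omega, h, by omega, by omega⟩
    · refine ⟨3, d - 1, by decide, by omega, by omega, ?_, by omega, by omega⟩
      obtain ⟨t, ht⟩ := h
      exact ⟨t, by omega⟩
  obtain ⟨μ, hμdef⟩ : ∃ μ : Multiset ℕ, μ = e ::ₘ Multiset.replicate a 2 := ⟨_, rfl⟩
  have hμ : ∀ b ∈ μ, 0 < b ∧ b ≤ p := by
    intro b hb
    rw [hμdef, Multiset.mem_cons] at hb
    rcases hb with rfl | hb
    · omega
    · rw [Multiset.eq_of_mem_replicate hb]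
      omega
  have hev : ∀ k : ℕ, Even k → Even (μ.count k) := by
    intro k hk
    rw [hμdef, Multiset.count_cons, Multiset.count_replicate]
    have hke : k ≠ e := by
      rintro rfl
      exact (Nat.not_even_iff_odd.2 he) hk
    rw [if_neg hke, add_zero]
    split_ifs
    · exact hae
    · exact Even.zero
  have hsum : μ.sum = 2 * d + 1 := by
    rw [hμdef, Multiset.sum_cons, Multiset.sum_replicate, smul_eq_mul]
    omega
  obtain ⟨g, hgΩ, hgp, hgQ, hgrk⟩ := exists_unipotent_odd (F := F) hp2 d μ hμ hev hsum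
  have hpos : ∀ b ∈ μ, 0 < b := fun b hb => (hμ b hb).1
  have hr1 : rsum μ 1 ≠ 0 := by
    rw [Ne, rsum_eq_zero_iff]
    intro h
    have h2μ : 2 ∈ μ := by
      rw [hμdef]
      apply Multiset.mem_cons_of_mem
      rw [Multiset.mem_replicate]
      exact ⟨by omega, rfl⟩
    have := h 2 h2μ
    omega
  have hg1 : g ≠ 1 := by
    rintro rfl
    apply hr1
    rw [← hgrk]
    have h0 : Matrix.toLin' ((1 : GL (Unit ⊕ (Fin d ⊕ Fin d)) F) :
        Matrix (Unit ⊕ (Fin d ⊕ Fin d)) (Unit ⊕ (Fin d ⊕ Fin d)) F) - 1 = 0 := by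
      rw [Units.val_one, Matrix.toLin'_one]
      exact sub_self _
    rw [h0, rk_eq_zero_iff, pow_one]
  refine ⟨g, by rw [← coe_oddForm]; exact hgΩ, orderOf_eq_prime hgp hg1, ?_⟩
  intro W hWd hWnd hWnp hWinv
  obtain ⟨ν, hle, hνsum, -, x, hx, hx2⟩ := exists_sub_type_quad_minus h2 (oddForm d F) hgQ hpos
    hgrk hWinv (by rw [coe_oddForm]; exact hWnd) (by rw [coe_oddForm]; exact hWnp)
  rw [hμdef] at hle
  have := odd_sum_of_sub e a he ν hle x hx hx2
  rw [hνsum, hWd] at this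
  exact (Nat.not_even_iff_odd.2 this) hme

end unip

end Cfsg.Agent.Lib.Helper5.OElus
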