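import Mathlib
import Cfsg.Agent.Lib.Helper5.OElus.Corner
import Cfsg.Agent.Lib.Helper5.OElus.Max
import Cfsg.Agent.Lib.Helper5.OElus.Unip
import Cfsg.Agent.Lib.Helper5.OrthCard

set_option autoImplicit false

/-!
# Elements of prime order of `Ω_{2d+1}(q)`, `q` odd, fixing a nondegenerate subspace of even
dimension and given type
-/

namespace Cfsg.Agent.Lib.Helper5.OElus

open QuadraticMap Module Cfsg
open Cfsg.Agent.Lib.Helper5.QuadTwo Cfsg.Agent.Lib.Helper5.QuadSign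
open Cfsg.Agent.Lib.Helper5.OrthPrime Cfsg.Agent.Lib.Helper5.SpinorHyp2

universe u

section main
variable {F : Type u} [Field F] {ι : Type} [Fintype ι] [DecidableEq ι]

/-- the linear data of an element of the isometry group -/
theorem exists_lin_data (Q : QuadraticForm F (ι → F)) (x : GL ι F)
    (hx : x ∈ Cfsg.isometryGroup F ⇑Q) :
    ∃ g gi : (ι → F) →ₗ[F] (ι → F), g = Matrix.toLin' (x : Matrix ι ι F) ∧
      (∀ v, Q (g v) = Q v) ∧ (∀ v, gi (g v) = v) ∧ (∀ v, g (gi v) = v) ∧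
      ∀ n : ℕ, x ^ n = 1 → g ^ n = 1 := by
  refine ⟨Matrix.toLin' (x : Matrix ι ι F), Matrix.toLin' ((x⁻¹ : GL ι F) : Matrix ι ι F), rfl,
    ?_, ?_, ?_, ?_⟩
  · intro v
    rw [Matrix.toLin'_apply]
    exact (Cfsg.Agent.Lib.Helper5.OrthCard.mem_isometryGroup_iff (⇑Q) x).1 hx v
  · intro v
    rw [Matrix.toLin'_apply, Matrix.toLin'_apply, Matrix.mulVec_mulVec, ← Units.val_mul,
      inv_mul_cancel, Units.val_one, Matrix.one_mulVec]
  · intro v
    rw [Matrix.toLin'_apply, Matrix.toLin'_apply, Matrix.mulVec_mulVec, ← Units.val_mul,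
      mul_inv_cancel, Units.val_one, Matrix.one_mulVec]
  · intro n hn
    have h1 : Matrix.toLin' ((x : Matrix ι ι F) ^ n) = Matrix.toLin' (x : Matrix ι ι F) ^ n :=
      map_pow (Matrix.toLinAlgEquiv' (R := F) (n := ι)) _ n
    rw [← h1, ← Units.val_pow_eq_pow_val, hn, Units.val_one]
    exact Matrix.toLin'_one

end main

section odd
variable {F : Type u} [Field F] [Fintype F]

/-- **prime order elements of `Ω_{2d+1}(q)` fixing a nondegenerate subspace of even dimension `m`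
and prescribed type**, `r ≠ p` -/
theorem main_iff {p : ℕ} [hp : Fact p.Prime] [CharP F p] {q : ℕ}
    (hq : Fintype.card F = q) (hqodd : Odd q) (d m : ℕ) (hm : 2 ≤ m) (hme : Even m)
    (hmn : m ≤ 2 * d) (r : ℕ) [hr : Fact r.Prime] (hrp : r ≠ p) (plus : Prop)
    (T : Submodule F (Unit ⊕ (Fin d ⊕ Fin d) → F) → Prop)
    (hT : ∀ W, T W ↔ (PlusOn (oddForm d F) W ↔ plus))
    (hrΩ : r ∣ Nat.card {W : Submodule F (Unit ⊕ (Fin d ⊕ Fin d) → F) //
      finrank F W = m ∧ Cfsg.Geo.IsNondegenerateOn (polar (Cfsg.quadFormOdd d F)) W ∧ T W})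
    (i c : ℕ) (hi : i = orderOf (q : ZMod r)) (hc : c = if Even i then i else 2 * i) :
    (∀ x : GL (Unit ⊕ (Fin d ⊕ Fin d)) F, x ∈ Cfsg.Geo.omegaGL (Cfsg.quadFormOdd d F) →
      orderOf x = r →
      ∃ W : Submodule F (Unit ⊕ (Fin d ⊕ Fin d) → F), (finrank F W = m ∧
        Cfsg.Geo.IsNondegenerateOn (polar (Cfsg.quadFormOdd d F)) W ∧ T W) ∧
        W.map (Matrix.toLin' (x : Matrix (Unit ⊕ (Fin d ⊕ Fin d))
          (Unit ⊕ (Fin d ⊕ Fin d)) F)) ≤ W) ↔
    (r = 2 ∨ (2 < r ∧ c ≤ m ∧ m % c < (2 * d + 1) % c ∧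
      (m % c = 0 → (Even i → (plus ↔ Even (m / i))) ∧ (¬ Even i → plus)))) := by
  subst hq
  obtain ⟨k, hk⟩ : ∃ k, m = 2 * k := by
    obtain ⟨k, hk⟩ := hme
    exact ⟨k, by omega⟩
  subst hk
  have h2 : (2 : F) ≠ 0 := Cfsg.Agent.Lib.Helper5.two_ne_zero_of_odd_card hqodd
  have hp2 : p ≠ 2 := by
    rintro rfl
    obtain ⟨n, -, hn⟩ := FiniteField.card F 2
    rw [hn] at hqodd
    exact (Nat.not_even_iff_odd.2 hqodd) (Nat.even_pow.2 ⟨even_two, n.ne_zero⟩)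
  obtain ⟨f₀, hqp⟩ : ∃ f₀ : ℕ, Fintype.card F = p ^ f₀ := by
    obtain ⟨n, -, hn⟩ := FiniteField.card F p
    exact ⟨n, hn⟩
  have hrq : ¬ r ∣ Fintype.card F := by
    rw [hqp]
    intro h
    exact hrp ((Nat.prime_dvd_prime_iff_eq hr.out hp.out).mp (hr.out.dvd_of_dvd_pow h))
  have hcoe : ⇑(oddForm d F) = Cfsg.quadFormOdd d F := coe_oddForm d
  rw [← hcoe] at hrΩ ⊢
  have hQ₀ : Nd (oddForm d F) := by
    intro v hv
    have hnd := oddForm_nondegenerate h2 d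
    exact hnd.2 v (fun w => by
      have := hv w
      rwa [← polarBilin_apply_apply] at this)
  have hn : finrank F (Unit ⊕ (Fin d ⊕ Fin d) → F) = 2 * d + 1 := by
    rw [Module.finrank_fintype_fun_eq_card, card_index]
  have hnodd : Odd (finrank F (Unit ⊕ (Fin d ⊕ Fin d) → F)) := by rw [hn]; exact ⟨d, rfl⟩
  have typed_iff : ∀ W : Submodule F (Unit ⊕ (Fin d ⊕ Fin d) → F),
      (finrank F W = 2 * k ∧ Cfsg.Geo.IsNondegenerateOn (polar ⇑(oddForm d F)) W ∧ T W) ↔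
        Typed (oddForm d F) k plus W := by
    intro W
    unfold Typed
    rw [isNondegenerateOn_iff, hT]
  have hmem : ∀ x : GL (Unit ⊕ (Fin d ⊕ Fin d)) F, x ∈ Cfsg.Geo.omegaGL ⇑(oddForm d F) →
      x ∈ Cfsg.isometryGroup F ⇑(oddForm d F) := by
    rintro x ⟨y, -, rfl⟩
    exact y.2
  constructor
  · -- necessity
    intro H
    rcases eq_or_ne r 2 with hr2 | hr2
    · exact Or.inl hr2
    right
    have hr3 : 2 < r := by
      have := hr.out.two_le
      omega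
    have hdvd : r ∣ Nat.card {W : Submodule F (Unit ⊕ (Fin d ⊕ Fin d) → F) //
        Typed (oddForm d F) k plus W} := by
      rw [← Nat.card_congr (Equiv.subtypeEquivRight typed_iff)]
      exact hrΩ
    -- `c ≤ n`
    have hcn : c ≤ 2 * d + 1 := by
      obtain ⟨W₀, -, hfr, hnd, hpl⟩ := exists_typed_sup hqodd (oddForm d F) ⊤ ⊥
        (fun c' _ u hu => by rw [(Submodule.mem_bot F).1 hu, polar_zero_right])
        (fun v _ hv => hQ₀ v (fun w => hv w Submodule.mem_top)) (ndOn_bot _) (2 * k) k (by omega)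
        (by rw [finrank_top, hn]; omega) (by rw [finrank_bot, add_zero]) plus
      have := le_finrank_of_dvd_card hqodd (oddForm d F) hQ₀ k plus _ ⟨hfr, hnd, hpl⟩ r hr2 hrq
        hdvd i c hi hc
      rwa [hn] at this
    have hmax : ∃ g : ↥(Cfsg.isometryGroup F ⇑(oddForm d F)), g ^ r = 1 ∧ g ≠ 1 ∧
        g ∈ Cfsg.Omega F ⇑(oddForm d F) ∧
        finrank F (LinearMap.ker (Matrix.toLin' ((g : GL (Unit ⊕ (Fin d ⊕ Fin d)) F) :
          Matrix (Unit ⊕ (Fin d ⊕ Fin d)) (Unit ⊕ (Fin d ⊕ Fin d)) F) - 1)) =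
          (2 * d + 1) % c := by
      rw [hcoe]
      exact exists_max_elt p rfl (Nat.odd_iff.1 hqodd) d r hr2 hrp i c hi hc hcn
    obtain ⟨g₀, hg₀r, hg₀1, hg₀Ω, hg₀fix⟩ := hmax
    have hx₀Ω : (g₀ : GL (Unit ⊕ (Fin d ⊕ Fin d)) F) ∈ Cfsg.Geo.omegaGL ⇑(oddForm d F) :=
      ⟨g₀, hg₀Ω, rfl⟩
    have hx₀ord : orderOf (g₀ : GL (Unit ⊕ (Fin d ⊕ Fin d)) F) = r := by
      rw [Subgroup.orderOf_coe]
      exact orderOf_eq_prime hg₀r hg₀1
    obtain ⟨W, hWt, hWinv⟩ := H _ hx₀Ω hx₀ord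
    obtain ⟨hWd, hWnd, hWpl⟩ := (typed_iff W).1 hWt
    obtain ⟨g, gi, hgdef, hiso, gi_g, g_gi, hpow⟩ := exists_lin_data (oddForm d F) _
      (hmem _ hx₀Ω)
    have hgr : g ^ r = 1 := hpow r (by rw [← hx₀ord]; exact pow_orderOf_eq_one _)
    rw [← hgdef] at hWinv hg₀fix
    rw [← hn] at hg₀fix
    have hWg : ∀ x ∈ W, g x ∈ W := fun x hx => hWinv ⟨x, hx, rfl⟩
    obtain ⟨hlt, htype⟩ := mod_lt_of_inv (oddForm d F) g gi hiso gi_g g_gi r hr2 hrp hrq hgr i c
      hi hc hnodd hg₀fix W hWg k hWd hWnd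
    rw [hn] at hlt
    refine ⟨hr3, ?_, hlt, ?_⟩
    · by_contra hcon
      push Not at hcon
      have hmodeq : (2 * k) % c = 2 * k := Nat.mod_eq_of_lt hcon
      rw [hmodeq, ← hn] at hlt
      have := le_of_dvd_card_typed hqodd (oddForm d F) hQ₀ g gi hiso gi_g g_gi r hr2 hrp hrq hgr
        i c hi hc hg₀fix k (by omega) plus hlt hdvd
      omega
    · intro h0
      obtain ⟨h1, h2'⟩ := htype h0
      exact ⟨fun hev => by rw [← hWpl]; exact h1 hev, fun hev => hWpl.1 (h2' hev)⟩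
  · -- sufficiency
    intro H x hxΩ hxord
    obtain ⟨g, gi, hgdef, hiso, gi_g, g_gi, hpow⟩ := exists_lin_data (oddForm d F) x (hmem x hxΩ)
    have hgr : g ^ r = 1 := hpow r (by rw [← hxord]; exact pow_orderOf_eq_one _)
    rw [← hgdef]
    have key : ∃ W : Submodule F (Unit ⊕ (Fin d ⊕ Fin d) → F), finrank F W = 2 * k ∧
        NdOn (oddForm d F) W ∧ (PlusOn (oddForm d F) W ↔ plus) ∧ ∀ x ∈ W, g x ∈ W := by
      rcases H with hr2 | ⟨hr3, hcm, hlt, htype⟩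
      · subst hr2
        apply exists_typed_of_involution hqodd (oddForm d F) hQ₀ g hiso _ k (by omega)
          (by rw [hn]; omega) plus
        intro v
        have := congrArg (fun f => f v) hgr
        rwa [pow_two] at this
      · exact exists_typed_of_odd_order hqodd hqp (oddForm d F) hQ₀ g gi hiso gi_g g_gi r
          (by omega) hrp hgr i c hi hc k (by rw [hn]; omega) (by rw [hn]; exact hlt) plus htype
    obtain ⟨W, hWd, hWnd, hWpl, hWg⟩ := key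
    refine ⟨W, (typed_iff W).2 ⟨hWd, hWnd, hWpl⟩, ?_⟩
    rintro _ ⟨w, hw, rfl⟩
    exact hWg w hw

end odd

end Cfsg.Agent.Lib.Helper5.OElus
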